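import Mathlib.GroupTheory.GroupAction.Quotient
import Mathlib.GroupTheory.Perm.Basic
import Mathlib.Data.Fintype.BigOperators
import Mathlib.Data.ZMod.Basic
import Mathlib.Algebra.BigOperators.Fin
import Mathlib.Tactic

/-!
The largest abelian subgroups of symmetric groups.
-/

set_option autoImplicit false

open Equiv MulAction

namespace CfsgLib.AltHall

/-- The largest product of parts of a partition of `n`. -/
def maxProd : ℕ → ℕ
  | 0 => 1
  | 1 => 1
  | 2 => 2
  | 3 => 3
  | 4 => 4
  | n + 5 => 3 * maxProd (n + 2)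

theorem maxProd_succ_five (n : ℕ) : maxProd (n + 5) = 3 * maxProd (n + 2) := by rw [maxProd]

theorem mul_maxProd_le : ∀ n d m : ℕ, 1 ≤ d → d + m = n → d * maxProd m ≤ maxProd n := by
  intro n
  induction n using Nat.strong_induction_on with
  | _ n ih =>
  intro d m hd hdm
  rcases Nat.lt_or_ge n 5 with hn | hn
  · have hd4 : d ≤ 4 := by omega
    obtain rfl : m = n - d := by omega
    clear ih
    interval_cases n <;> interval_cases d <;> first | omega | simp +decide
  obtain ⟨r, rfl⟩ : ∃ r, n = r + 5 := ⟨n - 5, by omega⟩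
  rw [maxProd_succ_five]
  rcases Nat.lt_or_ge d 5 with hd5 | hd5
  · rcases Nat.lt_or_ge m 5 with hm | hm
    · -- both small
      have hr : r < 4 := by omega
      clear ih
      interval_cases d <;> interval_cases m <;> first | (exfalso; omega) | skip
      all_goals
        interval_cases r <;> first | (exfalso; omega) | simp +decide
    · obtain ⟨s, rfl⟩ : ∃ s, m = s + 5 := ⟨m - 5, by omega⟩
      rw [maxProd_succ_five, mul_left_comm]
      exact Nat.mul_le_mul_left 3 (ih (r + 2) (by omega) d (s + 2) hd (by omega))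
  · have h1 := ih (r + 2) (by omega) (d - 3) m (by omega) (by omega)
    calc d * maxProd m ≤ (3 * (d - 3)) * maxProd m := Nat.mul_le_mul_right _ (by omega)
      _ = 3 * ((d - 3) * maxProd m) := mul_assoc _ _ _
      _ ≤ 3 * maxProd (r + 2) := Nat.mul_le_mul_left 3 h1

theorem maxProd_three_mul : ∀ k : ℕ, maxProd (3 * k) = 3 ^ k := by
  intro k
  induction k using Nat.strong_induction_on with
  | _ k ih =>
  match k with
  | 0 => rfl
  | 1 => rfl
  | j + 2 =>
    rw [show 3 * (j + 2) = (3 * j + 1) + 5 by omega, maxProd_succ_five,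
      show 3 * j + 1 + 2 = 3 * (j + 1) by omega, ih (j + 1) (by omega), ← pow_succ']

theorem maxProd_three_mul_add_four : ∀ k : ℕ, maxProd (3 * k + 4) = 4 * 3 ^ k := by
  intro k
  induction k with
  | zero => rfl
  | succ k ih =>
    rw [show 3 * (k + 1) + 4 = (3 * k + 2) + 5 by omega, maxProd_succ_five,
      show 3 * k + 2 + 2 = 3 * k + 4 by omega, ih, pow_succ]
    ring

theorem maxProd_three_mul_add_two : ∀ k : ℕ, maxProd (3 * k + 2) = 2 * 3 ^ k := by
  intro k
  induction k with
  | zero => rfl
  | succ k ih =>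
    rw [show 3 * (k + 1) + 2 = (3 * k) + 5 by omega, maxProd_succ_five, ih, pow_succ]
    ring

/-- An abelian permutation group has order at most the largest product of a partition. -/
theorem card_abelian_le : ∀ (n : ℕ) (α : Type) [Finite α] (A : Subgroup (Perm α)),
    Nat.card α = n → IsMulCommutative A → Nat.card A ≤ maxProd n := by
  intro n
  induction n using Nat.strong_induction_on with
  | _ n ih =>
  intro α _ A hn hA
  classical
  rcases isEmpty_or_nonempty α with hα | hα
  · have : Subsingleton A := ⟨fun a b => Subtype.ext (Equiv.ext fun x => isEmptyElim x)⟩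
    rw [← hn, Nat.card_of_isEmpty (α := α)]
    exact (Nat.card_unique (α := A)).le
  obtain ⟨a⟩ := hα
  set O := orbit A a with hO
  set S := stabilizer A a with hS
  have hfix : ∀ s ∈ S, ∀ x ∈ O, (s : A) • x = x := by
    rintro s hs _ ⟨g, rfl⟩
    show s • g • a = g • a
    rw [smul_smul, hA.is_comm.comm, mul_smul, hs]
  let φ : S →* Perm {x // x ∉ O} :=
    { toFun := fun s => ((s : A) : Perm α).subtypePerm fun x => by
        refine not_congr ⟨fun h => ?_, fun h => ?_⟩
        · have := hfix (s⁻¹ : S) (s⁻¹ : S).2 _ h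
          simp [Subgroup.smul_def] at this
          exact this ▸ h
        · show (s : A) • x ∈ O
          rw [hfix s s.2 x h]; exact h
      map_one' := by ext x; rfl
      map_mul' := fun s t => by ext x; rfl }
  have hinj : Function.Injective φ := by
    intro s t hst
    apply Subtype.ext; apply Subtype.ext
    ext x
    by_cases hx : x ∈ O
    · exact (hfix s s.2 x hx).trans (hfix t t.2 x hx).symm
    · exact congrArg Subtype.val (Equiv.ext_iff.1 hst ⟨x, hx⟩)
  have hcomm : IsMulCommutative φ.range := ⟨⟨fun x y => by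
    obtain ⟨_, s, rfl⟩ := x
    obtain ⟨_, t, rfl⟩ := y
    apply Subtype.ext
    show φ s * φ t = φ t * φ s
    rw [← map_mul, ← map_mul]
    congr 1
    exact Subtype.ext (hA.is_comm.comm _ _)⟩⟩
  have hcardO : Nat.card {x // x ∉ O} + Nat.card O = n := by
    rw [← hn, ← Nat.card_congr (Equiv.sumCompl fun x => x ∈ O), Nat.card_sum, add_comm]
  have hOpos : 1 ≤ Nat.card O := Nat.card_pos_iff.2 ⟨⟨⟨a, mem_orbit_self a⟩⟩, inferInstance⟩
  have h1 := ih (Nat.card {x // x ∉ O}) (by omega) {x // x ∉ O} φ.range rfl hcomm
  rw [← Nat.card_congr (MonoidHom.ofInjective hinj).toEquiv] at h1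
  rw [← Subgroup.card_mul_index S, hS, MulAction.index_stabilizer, ← Nat.card_coe_set_eq]
  calc Nat.card S * Nat.card O ≤ maxProd (Nat.card {x // x ∉ O}) * Nat.card O :=
        Nat.mul_le_mul_right _ h1
    _ = Nat.card O * maxProd (Nat.card {x // x ∉ O}) := mul_comm _ _
    _ ≤ maxProd n := mul_maxProd_le n _ _ hOpos (by omega)

/-- A direct product of regular cyclic groups on disjoint sets. -/
theorem exists_abelian {m n : ℕ} (c : Fin m → ℕ) [∀ i, NeZero (c i)] (hc : ∑ i, c i = n) :
    ∃ A : Subgroup (Perm (Fin n)), IsMulCommutative A ∧ Nat.card A = ∏ i, c i := by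
  let φ : Multiplicative (∀ i, ZMod (c i)) →* Perm (Σ i, ZMod (c i)) :=
    { toFun := fun v => Equiv.sigmaCongrRight fun i => Equiv.addRight (Multiplicative.toAdd v i)
      map_one' := by
        apply Equiv.ext
        rintro ⟨i, x⟩
        simp
      map_mul' := fun v w => by
        apply Equiv.ext
        rintro ⟨i, x⟩
        simp only [Perm.mul_apply, Equiv.sigmaCongrRight_apply, Equiv.coe_addRight, toAdd_mul,
          Pi.add_apply]
        congr 1
        abel }
  have hinj : Function.Injective φ := fun v w h => by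
    apply Multiplicative.toAdd.injective
    ext i
    have := Equiv.ext_iff.1 h ⟨i, 0⟩
    simpa [φ] using this
  have hcard : Fintype.card (Σ i, ZMod (c i)) = n := by
    rw [Fintype.card_sigma, ← hc]
    exact Finset.sum_congr rfl fun i _ => ZMod.card _
  let e := (Fintype.equivFinOfCardEq hcard).permCongrHom.toMonoidHom.comp φ
  have hinj' : Function.Injective e := fun x y h =>
    hinj ((Fintype.equivFinOfCardEq hcard).permCongrHom.injective h)
  refine ⟨e.range, ⟨⟨fun x y => ?_⟩⟩, ?_⟩
  · obtain ⟨_, s, rfl⟩ := x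
    obtain ⟨_, t, rfl⟩ := y
    apply Subtype.ext
    show e s * e t = e t * e s
    rw [← map_mul, ← map_mul, mul_comm]
  · rw [← Nat.card_congr (MonoidHom.ofInjective hinj').toEquiv,
      Nat.card_congr Multiplicative.toAdd, Nat.card_pi]
    exact Finset.prod_congr rfl fun i _ => Nat.card_zmod _

end CfsgLib.AltHall
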