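import Mathlib.LinearAlgebra.Dual.Lemmas
import Mathlib.Algebra.Module.ZMod
import Mathlib.Algebra.Field.ZMod
import Mathlib.Tactic.LinearCombination
import Mathlib.Tactic.FieldSimp
import Mathlib.GroupTheory.Perm.Basic
import Mathlib.GroupTheory.GroupAction.Quotient
import Mathlib.Order.Atoms

/-!
The affine group of `𝔽_p^d` and the stabiliser of a line.
-/

set_option autoImplicit false

open Equiv

namespace CfsgLib.AltHall

variable {p : ℕ} [Fact p.Prime] {V : Type*} [AddCommGroup V] [Module (ZMod p) V] [Finite V]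

variable (V) in
/-- Affine permutations. -/
def affPerm : Subgroup (Perm V) where
  carrier := {g | ∀ x y : V, g (x + y) + g 0 = g x + g y}
  one_mem' := fun x y => by simp
  mul_mem' := fun {g h} hg hh x y => by
    simp only [Perm.mul_apply]
    have h1 := hg (h (x + y)) (h 0)
    rw [hh x y, hg (h x) (h y)] at h1
    -- both sides differ from `g (h x + h y)` by `g 0`
    rw [← h1]
  inv_mem' := fun {g} hg x y => by
    apply g.injective
    apply add_right_cancel (b := g 0)
    rw [hg, hg]
    simp

theorem aff_sub {g : Perm V} (hg : g ∈ affPerm V) (x y : V) : g x - g y = g (x - y) - g 0 := by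
  have := hg (x - y) y
  rw [sub_add_cancel] at this
  rw [sub_eq_sub_iff_add_eq_add, this]

/-- Translations. -/
theorem addRight_mem (v : V) : Equiv.addRight v ∈ affPerm V := fun x y => by
  simp only [Equiv.coe_addRight]; abel

theorem aff_smul {g : Perm V} (hg : g ∈ affPerm V) (h0 : g 0 = 0) (k : ZMod p) (x : V) :
    g (k • x) = k • g x := by
  let f : V →+ V := AddMonoidHom.mk' g fun a b => by simpa [h0] using hg a b
  exact ZMod.map_smul f k x

theorem linearEquiv_mem (e : V ≃ₗ[ZMod p] V) : e.toEquiv ∈ affPerm V := fun x y => by simp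

/-- The subgroup preserving the cosets of `L`. -/
def cosetStab (L : Submodule (ZMod p) V) : Subgroup (Perm V) where
  carrier := {g | ∀ x y, x - y ∈ L ↔ g x - g y ∈ L}
  one_mem' := fun _ _ => Iff.rfl
  mul_mem' := fun {g h} hg hh x y => (hh x y).trans (hg (h x) (h y))
  inv_mem' := fun {g} hg x y => by simpa using (hg (g⁻¹ x) (g⁻¹ y)).symm

theorem mem_cosetStab_of_line {v : V} {g : Perm V} (hg : g ∈ affPerm V)
    (hv : g v - g 0 ∈ Submodule.span (ZMod p) {v}) : g ∈ cosetStab (Submodule.span (ZMod p) {v}) := by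
  set L := Submodule.span (ZMod p) {v}
  let f : V →ₗ[ZMod p] V :=
    (AddMonoidHom.mk' (fun x => g x - g 0) fun a b => by
      have := hg a b
      rw [sub_add_sub_comm, ← this]; abel).toZModLinearMap p
  have hf : ∀ x, f x = g x - g 0 := fun x => rfl
  have hinj : Function.Injective f := fun a b h => g.injective (sub_left_injective h)
  have hmap : L.map f = L := by
    refine Submodule.eq_of_le_of_finrank_le ?_ (le_of_eq ?_)
    · rw [Submodule.map_span, Submodule.span_le, Set.image_singleton, Set.singleton_subset_iff]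
      exact hv
    · exact (Submodule.equivMapOfInjective f hinj L).finrank_eq
  intro x y
  rw [aff_sub hg, ← hf]
  constructor
  · exact fun h => hmap ▸ Submodule.mem_map_of_mem h
  · intro h
    rw [← hmap, Submodule.mem_map] at h
    obtain ⟨z, hz, hzx⟩ := h
    exact hinj hzx ▸ hz

/-- A shear fixing `v` moving `u` to `w`. -/
theorem exists_shear {v u w : V} (hu : u ∉ Submodule.span (ZMod p) {v})
    (hw : w ∉ Submodule.span (ZMod p) {v}) :
    ∃ e : V ≃ₗ[ZMod p] V, e v = v ∧ e u = w := by
  classical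
  set L := Submodule.span (ZMod p) {v}
  obtain ⟨φ₁, h1, h1L⟩ := Submodule.exists_dual_map_eq_bot_of_notMem hu inferInstance
  obtain ⟨φ₂, h2, h2L⟩ := Submodule.exists_dual_map_eq_bot_of_notMem hw inferInstance
  have hzero : ∀ φ : Module.Dual (ZMod p) V, L.map φ = ⊥ → φ v = 0 := fun φ h => by
    have : φ v ∈ L.map φ := Submodule.mem_map_of_mem (Submodule.mem_span_singleton_self v)
    rw [h, Submodule.mem_bot] at this
    exact this
  obtain ⟨φ, hφv, hφu, hφw⟩ : ∃ φ : Module.Dual (ZMod p) V, φ v = 0 ∧ φ u ≠ 0 ∧ φ w ≠ 0 := by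
    by_cases a : φ₁ w = 0
    · by_cases b : φ₂ u = 0
      · exact ⟨φ₁ + φ₂, by simp [hzero _ h1L, hzero _ h2L], by simp [b, h1], by simp [a, h2]⟩
      · exact ⟨φ₂, hzero _ h2L, b, h2⟩
    · exact ⟨φ₁, hzero _ h1L, h1, a⟩
  let f : V →ₗ[ZMod p] V := LinearMap.id + (φ u)⁻¹ • φ.smulRight (w - u)
  have hf : ∀ x, f x = x + ((φ u)⁻¹ * φ x) • (w - u) := fun x => by
    simp [f, smul_smul]
  have hinj : Function.Injective f := by
    rw [injective_iff_map_eq_zero]
    intro x hx
    rw [hf] at hx
    have h3 := congrArg φ hx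
    rw [map_add, map_smul, map_sub, map_zero, smul_eq_mul] at h3
    have hx0 : φ x * (φ w * (φ u)⁻¹) = 0 := by
      field_simp at h3 ⊢
      linear_combination h3
    rcases mul_eq_zero.1 hx0 with h | h
    · simpa [h] using hx
    · rcases mul_eq_zero.1 h with h | h
      · exact absurd h hφw
      · exact absurd (inv_eq_zero.1 h) hφu
  refine ⟨LinearEquiv.ofBijective f (Finite.injective_iff_bijective.1 hinj), ?_, ?_⟩
  · rw [LinearEquiv.ofBijective_apply, hf, hφv]
    simp
  · rw [LinearEquiv.ofBijective_apply, hf, inv_mul_cancel₀ hφu]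
    simp

/-- The example of a maximal subgroup of prime power index with a maximal subgroup which is not
second maximal. -/
theorem affine_example {v u : V} (hv : v ≠ 0) (hu : u ∉ Submodule.span (ZMod p) {v}) :
    ∃ M H K : Subgroup (affPerm V), IsCoatom M ∧ M.index = Nat.card V ∧ H ≤ M ∧
      IsCoatom (H.subgroupOf M) ∧ IsCoatom K ∧ H ≤ K ∧ ¬ IsCoatom (H.subgroupOf K) := by
  classical
  set L := Submodule.span (ZMod p) {v} with hL
  set M := MulAction.stabilizer (affPerm V) (0 : V) with hM
  set K := (cosetStab L).subgroupOf (affPerm V) with hK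
  have hM0 : ∀ g : affPerm V, g ∈ M ↔ (g : Perm V) 0 = 0 := fun g => Iff.rfl
  have hvL : v ∈ L := Submodule.mem_span_singleton_self v
  let t : V → affPerm V := fun x => ⟨Equiv.addRight x, addRight_mem x⟩
  have htK : ∀ x, t x ∈ K := fun x => Subgroup.mem_subgroupOf.2 fun a b => by
    simp [t]
  have ht0 : ∀ (g : affPerm V), (t ((g : Perm V) 0))⁻¹ * g ∈ M := fun g => by
    show (Equiv.addRight ((g : Perm V) 0))⁻¹ ((g : Perm V) 0) = 0
    simp
  have hlin : ∀ e : V ≃ₗ[ZMod p] V, (⟨e.toEquiv, linearEquiv_mem e⟩ : affPerm V) ∈ M :=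
    fun e => map_zero e
  -- key: maximality in the linear group
  have key : ∀ S : Subgroup (affPerm V), M ⊓ K ≤ S → ¬ S ⊓ M ≤ K → M ≤ S := by
    intro S hS hSK
    obtain ⟨g, ⟨hgS, hgM⟩, hgK⟩ := SetLike.not_le_iff_exists.1 hSK
    have hgv : (g : Perm V) v ∉ L := fun h => hgK (Subgroup.mem_subgroupOf.2
      (mem_cosetStab_of_line g.2 (by rw [(hM0 g).1 hgM, sub_zero]; exact h)))
    intro m hm
    by_cases hmv : (m : Perm V) v ∈ L
    · exact hS ⟨hm, Subgroup.mem_subgroupOf.2
        (mem_cosetStab_of_line m.2 (by rw [(hM0 m).1 hm, sub_zero]; exact hmv))⟩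
    obtain ⟨e, hev, heu⟩ := exists_shear hgv hmv
    set h : affPerm V := ⟨e.toEquiv, linearEquiv_mem e⟩ with hh
    have hhK : h ∈ K := Subgroup.mem_subgroupOf.2 (mem_cosetStab_of_line (linearEquiv_mem e) (by
      show e v - e 0 ∈ L
      rw [map_zero, sub_zero, hev]
      exact hvL))
    set r := (h * g)⁻¹ * m with hr
    have hrv : (r : Perm V) v = v := by
      show ((h : Perm V) * (g : Perm V))⁻¹ ((m : Perm V) v) = v
      rw [Perm.inv_eq_iff_eq]
      exact heu.symm
    have hrM : r ∈ M := mul_mem (inv_mem (mul_mem (hlin e) hgM)) hm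
    have hrS : r ∈ S := hS ⟨hrM, Subgroup.mem_subgroupOf.2
      (mem_cosetStab_of_line r.2 (by rw [(hM0 r).1 hrM, sub_zero, hrv]; exact hvL))⟩
    have : m = h * g * r := by rw [hr, mul_inv_cancel_left]
    rw [this]
    exact mul_mem (mul_mem (hS ⟨hlin e, hhK⟩) hgS) hrS
  have hu0 : u ≠ 0 := fun h => hu (h ▸ L.zero_mem)
  refine ⟨M, M ⊓ K, K, ⟨?_, fun S hS => ?_⟩, ?_, inf_le_left, ⟨?_, fun S hS => ?_⟩,
    ⟨?_, fun S hS => ?_⟩, inf_le_right, ?_⟩
  · intro h
    have h1 : t u ∈ M := h ▸ Subgroup.mem_top _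
    exact hu0 (by simpa [t] using (hM0 _).1 h1)
  · -- a subgroup above the point stabiliser moves `0` to every point
    obtain ⟨s, hsS, hsM⟩ := SetLike.exists_of_lt hS
    have horb : ∀ x : V, ∃ g ∈ S, (g : Perm V) 0 = x := by
      intro x
      by_cases hx : x = 0
      · exact ⟨1, one_mem S, by simp [hx]⟩
      have hs0 : (s : Perm V) 0 ≠ 0 := fun h => hsM ((hM0 s).2 h)
      -- a linear map carrying `s 0` to `x`
      obtain ⟨m, hmM, hm⟩ : ∃ m ∈ M, (m : Perm V) ((s : Perm V) 0) = x := by
        by_cases hcase : ∃ z : V, (s : Perm V) 0 ∉ Submodule.span (ZMod p) {z} ∧ x ∉ Submodule.span (ZMod p) {z}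
        · obtain ⟨z, hz1, hz2⟩ := hcase
          obtain ⟨e, -, he⟩ := exists_shear hz1 hz2
          exact ⟨_, hlin e, he⟩
        · push Not at hcase
          -- go through a vector independent of both
          obtain ⟨y, hy⟩ : ∃ y, y ∉ Submodule.span (ZMod p) {(s : Perm V) 0} := by
            by_contra hall
            push Not at hall
            obtain ⟨a, ha⟩ := Submodule.mem_span_singleton.1 (hall v)
            obtain ⟨b, hb⟩ := Submodule.mem_span_singleton.1 (hall u)
            apply hu
            rw [Submodule.mem_span_singleton]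
            have ha0 : a ≠ 0 := fun h => hv (by rw [← ha, h, zero_smul])
            exact ⟨b * a⁻¹, by rw [← ha, smul_smul, inv_mul_cancel_right₀ ha0, hb]⟩
          have hswap : ∀ {a b : V}, a ≠ 0 → b ∉ Submodule.span (ZMod p) {a} →
              a ∉ Submodule.span (ZMod p) {b} := by
            intro a b ha hb hab
            obtain ⟨k, hk⟩ := Submodule.mem_span_singleton.1 hab
            have hk0 : k ≠ 0 := fun h => ha (by rw [← hk, h, zero_smul])
            exact hb (Submodule.mem_span_singleton.2 ⟨k⁻¹, by rw [← hk, smul_smul, inv_mul_cancel₀ hk0, one_smul]⟩)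
          have hxy := hcase y (hswap hs0 hy)
          have hy0 : y ≠ 0 := fun h => hy (by rw [h]; exact Submodule.zero_mem _)
          obtain ⟨k, hk⟩ := Submodule.mem_span_singleton.1 hxy
          have hxs : (s : Perm V) 0 + y ∉ Submodule.span (ZMod p) {(s : Perm V) 0} := fun h => hy (by
            simpa using Submodule.sub_mem _ h (Submodule.mem_span_singleton_self _))
          have hys : (s : Perm V) 0 ∉ Submodule.span (ZMod p) {(s : Perm V) 0 + y} := hswap hs0 hxs
          have h2 := hcase _ hys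
          obtain ⟨k', hk'⟩ := Submodule.mem_span_singleton.1 h2
          exfalso
          rw [← hk] at hk'
          rw [smul_add] at hk'
          have hmem : k' • (s : Perm V) 0 ∈ Submodule.span (ZMod p) {y} := by
            rw [show k' • (s : Perm V) 0 = (k - k') • y by rw [sub_smul, ← hk']; abel]
            exact Submodule.smul_mem _ _ (Submodule.mem_span_singleton_self y)
          by_cases hk0 : k' = 0
          · rw [hk0, zero_smul, zero_smul, zero_add] at hk'
            exact hx (by rw [← hk, ← hk'])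
          · exact hswap hs0 hy ((Submodule.smul_mem_iff _ hk0).1 hmem)
      exact ⟨m * s, mul_mem (hS.le hmM) hsS, hm⟩
    rw [eq_top_iff]
    intro g _
    obtain ⟨g', hg', hg'0⟩ := horb ((g : Perm V) 0)
    have : g'⁻¹ * g ∈ M := by
      show (g' : Perm V)⁻¹ ((g : Perm V) 0) = 0
      rw [Perm.inv_eq_iff_eq, hg'0]
    simpa using mul_mem hg' (hS.le this)
  · rw [hM, MulAction.index_stabilizer, ← Nat.card_coe_set_eq]
    refine Nat.card_congr (Equiv.subtypeUnivEquiv fun x => ⟨t x, ?_⟩)
    show (Equiv.addRight x) 0 = x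
    simp
  · intro h
    obtain ⟨e, heu, hev⟩ := exists_shear (p := p) (v := v + u) (u := v) (w := u)
      (fun hh => by
        obtain ⟨k, hk⟩ := Submodule.mem_span_singleton.1 hh
        by_cases hk0 : k = 0
        · exact hv (by rw [← hk, hk0, zero_smul])
        · apply hu
          rw [smul_add] at hk
          exact (Submodule.smul_mem_iff _ hk0).1 (by
            rw [show k • u = v - k • v by rw [eq_sub_iff_add_eq, add_comm, hk]]
            exact Submodule.sub_mem _ hvL (Submodule.smul_mem _ _ hvL)))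
      (fun hh => by
        obtain ⟨k, hk⟩ := Submodule.mem_span_singleton.1 hh
        by_cases hk0 : k = 0
        · exact hu0 (by rw [← hk, hk0, zero_smul])
        · by_cases hk1 : k = 1
          · rw [hk1, one_smul] at hk
            exact hv (add_eq_right.1 hk)
          · apply hu
            rw [Submodule.mem_span_singleton]
            refine ⟨(1 - k)⁻¹ * k, ?_⟩
            have : k • v = (1 - k) • u := by
              rw [sub_smul, one_smul, eq_sub_iff_add_eq, ← smul_add, hk]
            rw [mul_smul, this, smul_smul, inv_mul_cancel₀ (sub_ne_zero.2 (Ne.symm hk1)), one_smul])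
    have hmem : (⟨_, hlin e⟩ : M) ∈ (M ⊓ K).subgroupOf M := h ▸ Subgroup.mem_top _
    have hK' := (Subgroup.mem_subgroupOf.1 (Subgroup.mem_subgroupOf.1 hmem).2 v 0).1 (by simpa using hvL)
    have : e v - e 0 ∈ L := hK'
    rw [map_zero, sub_zero, hev] at this
    exact hu this
  · have hle : M ≤ S.map M.subtype := by
      refine key _ (fun g hg => ⟨⟨g, hg.1⟩, hS.le (Subgroup.mem_subgroupOf.2 hg), rfl⟩) fun hle => hS.ne ?_
      refine le_antisymm hS.le fun s hs => Subgroup.mem_subgroupOf.2 ⟨s.2, hle ⟨⟨s, hs, rfl⟩, s.2⟩⟩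
    rw [eq_top_iff]
    intro s _
    obtain ⟨s', hs', he⟩ := hle s.2
    exact (Subtype.ext he : s' = s) ▸ hs'
  · intro h
    -- the linear shear just used again
    have h1 : ∀ g : affPerm V, g ∈ K := fun g => h ▸ Subgroup.mem_top g
    obtain ⟨w, hw⟩ : ∃ w : V, w ∉ L := ⟨u, hu⟩
    obtain ⟨e, -, he⟩ : ∃ e : V ≃ₗ[ZMod p] V, True ∧ e v ∉ L := by
      by_contra hcon
      push Not at hcon
      -- all linear maps preserve the line
      have hsum : v + u ∉ L := fun h => hu (by simpa using Submodule.sub_mem _ h hvL)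
      have hvsum : v ∉ Submodule.span (ZMod p) {v + u} := fun hh => by
        obtain ⟨k, hk⟩ := Submodule.mem_span_singleton.1 hh
        by_cases hk0 : k = 0
        · exact hv (by rw [← hk, hk0, zero_smul])
        · apply hsum
          exact (Submodule.smul_mem_iff _ hk0).1 (hk.symm ▸ hvL)
      by_cases husum : u ∈ Submodule.span (ZMod p) {v + u}
      · obtain ⟨k, hk⟩ := Submodule.mem_span_singleton.1 husum
        by_cases hk1 : k = 1
        · rw [hk1, one_smul] at hk; exact hv (add_eq_right.1 hk)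
        · apply hu
          rw [Submodule.mem_span_singleton]
          refine ⟨(1 - k)⁻¹ * k, ?_⟩
          have : k • v = (1 - k) • u := by
            rw [sub_smul, one_smul, eq_sub_iff_add_eq, ← smul_add, hk]
          rw [mul_smul, this, smul_smul, inv_mul_cancel₀ (sub_ne_zero.2 (Ne.symm hk1)), one_smul]
      · obtain ⟨e, -, he⟩ := exists_shear hvsum husum
        exact hu (he ▸ hcon e trivial)
    have hK' := (Subgroup.mem_subgroupOf.1 (h1 ⟨_, linearEquiv_mem e⟩) v 0).1 (by simpa using hvL)
    have : e v - e 0 ∈ L := hK'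
    rw [map_zero, sub_zero] at this
    exact he this
  · have hMS : M ≤ S := by
      refine key S (inf_le_right.trans hS.le) fun hle => hS.not_ge fun g hg => ?_
      have h1 : (t ((g : Perm V) 0))⁻¹ * g ∈ K :=
        hle (show _ ∈ S ⊓ M from
          ⟨Subgroup.mul_mem S (Subgroup.inv_mem S (hS.le (htK _))) hg, ht0 g⟩)
      simpa using mul_mem (htK ((g : Perm V) 0)) h1
    rw [eq_top_iff]
    intro g _
    simpa using mul_mem (hS.le (htK ((g : Perm V) 0))) (hMS (ht0 g))
  · intro hco
    let W : Subgroup (affPerm V) :=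
      { carrier := {g | g ∈ K ∧ (g : Perm V) 0 ∈ L}
        one_mem' := ⟨one_mem K, by simp⟩
        mul_mem' := fun {a b} ha hb => ⟨mul_mem ha.1 hb.1, by
          have h1 := (Subgroup.mem_subgroupOf.1 ha.1 ((b : Perm V) 0) 0).1 (by simpa using hb.2)
          show (a : Perm V) ((b : Perm V) 0) ∈ L
          simpa using Submodule.add_mem _ h1 ha.2⟩
        inv_mem' := fun {a} ha => ⟨inv_mem ha.1, by
          show (a : Perm V)⁻¹ 0 ∈ L
          have h1 := (Subgroup.mem_subgroupOf.1 ha.1 ((a : Perm V)⁻¹ 0) 0).2 (by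
            simpa using Submodule.neg_mem _ ha.2)
          simpa using h1⟩ }
    have hlt : (M ⊓ K).subgroupOf K < W.subgroupOf K := by
      refine lt_of_le_of_ne (fun g hg => Subgroup.mem_subgroupOf.2 ⟨g.2, ?_⟩) fun he => ?_
      · rw [(hM0 g).1 (Subgroup.mem_subgroupOf.1 hg).1]; exact L.zero_mem
      · have h1 : (⟨t v, htK v⟩ : K) ∈ W.subgroupOf K :=
          Subgroup.mem_subgroupOf.2 ⟨htK v, by simpa [t] using hvL⟩
        rw [← he] at h1
        exact hv (by simpa [t] using (hM0 _).1 (Subgroup.mem_subgroupOf.1 h1).1)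
    have h1 : (⟨t u, htK u⟩ : K) ∈ W.subgroupOf K := (hco.2 _ hlt) ▸ Subgroup.mem_top _
    exact hu (by simpa [t] using (Subgroup.mem_subgroupOf.1 h1).2)

end CfsgLib.AltHall
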