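import Mathlib.Data.Nat.Choose.Basic
import Mathlib.Data.Nat.Choose.Factorization
import Mathlib.Data.Nat.Prime.Factorial
import Mathlib.Tactic

/-!
Binomial coefficients all of whose prime divisors are large.
-/

set_option autoImplicit false

open Finset Nat

namespace CfsgLib.AltHall

theorem count_coprime_six (c : ℕ) : ∀ b : ℕ,
    3 * ((range b).filter fun i => (c + i) % 6 = 1 ∨ (c + i) % 6 = 5).card ≤ b + 3 := by
  intro b
  induction b using Nat.strong_induction_on with
  | _ b ih =>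
  by_cases hb : b < 6
  · have key : ∀ d < 6, ∀ e < 6,
        3 * ((range e).filter fun i => (d + i) % 6 = 1 ∨ (d + i) % 6 = 5).card ≤ e + 3 := by
      decide
    have := key (c % 6) (Nat.mod_lt _ (by omega)) b hb
    simpa [Nat.mod_add_mod] using this
  · obtain ⟨a, rfl⟩ : ∃ a, b = a + 6 := ⟨b - 6, by omega⟩
    have h := ih a (by omega)
    have key : ∀ d < 6, ((range 6).filter fun i => (d + i) % 6 = 1 ∨ (d + i) % 6 = 5).card = 2 := by
      decide
    have h6 := key ((c + a) % 6) (Nat.mod_lt _ (by omega))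
    simp only [Nat.mod_add_mod] at h6
    rw [Finset.range_add, Finset.filter_union, Finset.card_union_of_disjoint, Finset.filter_map,
      Finset.card_map]
    · simp only [Function.comp_def, addLeftEmbedding_apply, ← add_assoc]
      omega
    · exact Finset.disjoint_filter_filter (Finset.disjoint_range_addLeftEmbedding _ _)

theorem factorial_mul_two_pow_le : ∀ b : ℕ, b ! * 2 ^ b ≤ (b + 1) ^ b := by
  intro b
  induction b with
  | zero => simp
  | succ b ih =>
    have gen : ∀ n : ℕ, (b + 1) ^ (n + 1) + (n + 1) * (b + 1) ^ n ≤ (b + 1 + 1) ^ (n + 1) := by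
      intro n
      induction n with
      | zero => simp
      | succ n ihn =>
        calc (b + 1) ^ (n + 1 + 1) + (n + 1 + 1) * (b + 1) ^ (n + 1)
            ≤ ((b + 1) ^ (n + 1) + (n + 1) * (b + 1) ^ n) * (b + 1 + 1) := by
              rw [pow_succ (b + 1) (n + 1), pow_succ (b + 1) n]
              nlinarith [Nat.zero_le ((n + 1) * (b + 1) ^ n)]
          _ ≤ (b + 1 + 1) ^ (n + 1) * (b + 1 + 1) := Nat.mul_le_mul_right _ ihn
          _ = _ := (pow_succ _ _).symm
    have h2 : 2 * (b + 1) ^ (b + 1) ≤ (b + 1 + 1) ^ (b + 1) := by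
      refine le_trans (le_of_eq ?_) (gen b)
      ring
    calc (b + 1)! * 2 ^ (b + 1) = 2 * (b + 1) * (b ! * 2 ^ b) := by
          rw [Nat.factorial_succ]; ring
      _ ≤ 2 * (b + 1) * (b + 1) ^ b := Nat.mul_le_mul_left _ ih
      _ = 2 * (b + 1) ^ (b + 1) := by ring
      _ ≤ _ := h2

theorem pow_gap : ∀ b : ℕ, 5 ≤ b → 3 ^ (2 * b - 3) * (b + 1) ^ 9 < 2 ^ (8 * b - 3) := by
  intro b hb
  induction b, hb using Nat.le_induction with
  | base => norm_num
  | succ b hb ih =>
    have h1 : (b + 1 + 1) ^ 9 * 6 ^ 9 ≤ 7 ^ 9 * (b + 1) ^ 9 := by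
      rw [← mul_pow, ← mul_pow]
      exact Nat.pow_le_pow_left (by omega) 9
    have e1 : 2 * (b + 1) - 3 = (2 * b - 3) + 2 := by omega
    have e2 : 8 * (b + 1) - 3 = (8 * b - 3) + 8 := by omega
    rw [e1, e2, pow_add, pow_add]
    have h2 : 3 ^ (2 * b - 3) * 3 ^ 2 * (b + 1 + 1) ^ 9 * 6 ^ 9 <
        2 ^ (8 * b - 3) * 2 ^ 8 * 6 ^ 9 := by
      calc 3 ^ (2 * b - 3) * 3 ^ 2 * (b + 1 + 1) ^ 9 * 6 ^ 9
          = 3 ^ (2 * b - 3) * 3 ^ 2 * ((b + 1 + 1) ^ 9 * 6 ^ 9) := by ring
        _ ≤ 3 ^ (2 * b - 3) * 3 ^ 2 * (7 ^ 9 * (b + 1) ^ 9) := Nat.mul_le_mul_left _ h1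
        _ = 3 ^ (2 * b - 3) * (b + 1) ^ 9 * (3 ^ 2 * 7 ^ 9) := by ring
        _ < 2 ^ (8 * b - 3) * (2 ^ 8 * 6 ^ 9) := Nat.mul_lt_mul'' ih (by norm_num)
        _ = _ := by ring
    exact Nat.lt_of_mul_lt_mul_right h2

/-- The only coefficient `(b+c).choose b`, `2 ≤ b ≤ c`, whose prime divisors all exceed `c` is
`7.choose 3`. -/
theorem binom_big {b c : ℕ} (hb : 2 ≤ b) (hbc : b ≤ c)
    (h : ∀ p : ℕ, p.Prime → p ∣ (b + c).choose b → c < p) : b = 3 ∧ c = 4 := by
  set P := (b + c).choose b with hP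
  have hcop : ∀ x : ℕ, (∀ p : ℕ, p.Prime → p ∣ x → p ≤ c) → Nat.Coprime P x := fun x hx =>
    Nat.coprime_of_dvd fun p hp h1 h2 => (h p hp h1).not_ge (hx p hp h2)
  have hsmall : ∀ (x y p : ℕ), y ≤ x → x ≤ c → p.Prime → p ∣ x.choose y → p ≤ c := by
    intro x y p hyx hxc hp hd
    refine le_trans (hp.dvd_factorial.1 (hd.trans ?_)) hxc
    exact ⟨y ! * (x - y)!, by rw [← mul_assoc]; exact (Nat.choose_mul_factorial_mul_factorial hyx).symm⟩
  -- the identity behind everything
  have hdvd : ∀ j, b + j ≤ c → (b + j).choose b ∣ c.choose j := by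
    intro j hj
    have e := Nat.choose_mul (n := b + c) (k := b + j) (s := b) (by omega)
    rw [show b + c - b = c by omega, show b + j - b = j by omega, ← hP] at e
    obtain ⟨X, hX⟩ : P ∣ (b + c).choose (b + j) :=
      (hcop _ fun p hp hd => hsmall _ _ p (by omega) hj hp hd).dvd_of_dvd_mul_right ⟨_, e⟩
    rw [hX, mul_assoc] at e
    exact ⟨X, by rw [mul_comm]; exact (Nat.eq_of_mul_eq_mul_left
      (Nat.choose_pos (by omega)) e).symm⟩
  -- `c = b` is impossible
  rcases hbc.eq_or_lt with rfl | hlt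
  · exfalso
    have : 2 ∣ P := by
      rw [hP, ← two_mul, ← Nat.centralBinom_eq_two_mul_choose]
      exact Nat.two_dvd_centralBinom_of_one_le (by omega)
    have := h 2 Nat.prime_two this
    omega
  rcases (Nat.succ_le_of_lt hlt).eq_or_lt with hc | hc
  · -- `c = b + 1`
    subst hc
    have e1 : (b + 1) * P = (2 * b + 1) * (2 * b).choose b := by
      have := Nat.choose_mul_succ_eq (2 * b) b
      rw [show 2 * b + 1 - b = b + 1 by omega] at this
      rw [hP, show b + b.succ = 2 * b + 1 by omega]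
      linarith
    have hodd : ¬ 2 ∣ P := fun h2 => by have := h 2 Nat.prime_two h2; omega
    have heven : 2 ∣ b + 1 := by
      have h2 : 2 ∣ (b + 1) * P := by
        rw [e1, ← Nat.centralBinom_eq_two_mul_choose]
        exact (Nat.two_dvd_centralBinom_of_one_le (by omega)).mul_left _
      exact (Nat.prime_two.dvd_mul.1 h2).resolve_right hodd
    obtain ⟨k, rfl⟩ : ∃ k, b = k + 2 := ⟨b - 2, by omega⟩
    have e2 : (k + 2 + 2) * (k + 2 + 3) * (k + 2 + (k + 2).succ).choose k =
        P * ((k + 2) * (k + 1)) := by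
      have a1 := Nat.choose_succ_right_eq (k + 2 + (k + 2).succ) k
      have a2 := Nat.choose_succ_right_eq (k + 2 + (k + 2).succ) (k + 1)
      rw [show k + 2 + (k + 2).succ - k = k + 2 + 3 by omega] at a1
      rw [show k + 2 + (k + 2).succ - (k + 1) = k + 2 + 2 by omega] at a2
      rw [hP]
      calc _ = (k + 2 + 2) * ((k + 2 + (k + 2).succ).choose k * (k + 2 + 3)) := by ring
        _ = (k + 2 + 2) * ((k + 2 + (k + 2).succ).choose (k + 1) * (k + 1)) := by rw [a1]
        _ = ((k + 2 + (k + 2).succ).choose (k + 1) * (k + 2 + 2)) * (k + 1) := by ring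
        _ = _ := by rw [← a2]; ring
    have hd : k + 2 + 3 ∣ (k + 2) * (k + 1) := by
      refine (Nat.Coprime.symm (hcop _ fun p hp hd => ?_)).dvd_of_dvd_mul_left
        ⟨(k + 2 + 2) * (k + 2 + (k + 2).succ).choose k, by rw [← e2]; ring⟩
      rcases hp.eq_two_or_odd with rfl | hpo
      · omega
      · obtain ⟨s, hs⟩ := hd
        have h2 : 2 ∣ p * s := hs ▸ (by omega)
        have h3 : 2 ∣ s := (Nat.prime_two.dvd_mul.1 h2).resolve_left (by omega)
        obtain ⟨r, rfl⟩ := h3
        have : r ≠ 0 := fun e => by subst e; omega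
        have : 2 * p ≤ p * (2 * r) := by nlinarith [Nat.pos_of_ne_zero this]
        omega
    have h12 : k + 2 + 3 ∣ 12 := by
      have h1 : (k + 2) * (k + 1) + 4 * (k + 2 + 3) = (k + 2 + 3) * (k + 2) + 12 := by ring
      have h4 : k + 2 + 3 ∣ (k + 2) * (k + 1) + 4 * (k + 2 + 3) := dvd_add hd (dvd_mul_left _ _)
      rw [h1] at h4
      exact (Nat.dvd_add_right (dvd_mul_right _ _)).1 h4
    have hk : k ≤ 7 := by have := Nat.le_of_dvd (by omega) h12; omega
    interval_cases k <;> first | omega | (exfalso; exact hodd (by rw [hP]; decide)) | (exfalso; revert h12; decide)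
  -- `c ≥ b + 2`
  have h1 := hdvd 1 (by omega)
  rw [Nat.choose_one_right, Nat.choose_succ_self_right] at h1
  obtain ⟨u, rfl⟩ := h1
  have hu2 : 2 ≤ u := by
    by_contra hu
    interval_cases u <;> omega
  have hu : b + 2 ≤ u * u + u := by
    have h2 := hdvd 2 (by omega)
    rw [show b + 2 = b + 2 from rfl, Nat.choose_symm_add, Nat.choose_two_right, Nat.choose_two_right,
      show b + 2 - 1 = b + 1 by omega] at h2
    have h3 : (b + 2) * (b + 1) ∣ (b + 1) * u * ((b + 1) * u - 1) := by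
      have ha := Nat.two_dvd_mul_add_one (b + 1)
      have hb' := Nat.two_dvd_mul_sub_one ((b + 1) * u)
      rw [mul_comm (b + 2)]
      calc (b + 1) * (b + 2) = ((b + 2) * (b + 1) / 2) * 2 := by
            rw [Nat.div_mul_cancel (by rw [mul_comm]; exact ha), mul_comm]
        _ ∣ ((b + 1) * u * ((b + 1) * u - 1) / 2) * 2 := mul_dvd_mul_right h2 2
        _ = _ := Nat.div_mul_cancel hb'
    rw [mul_comm (b + 2), mul_assoc] at h3
    have h4 : b + 2 ∣ u * ((b + 1) * u - 1) := Nat.dvd_of_mul_dvd_mul_left (by omega) h3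
    have h5 : u * ((b + 1) * u - 1) + (u * u + u) = (b + 2) * (u * u) := by
      obtain ⟨v, hv⟩ : ∃ v, (b + 1) * u = v + 1 := ⟨(b + 1) * u - 1, by omega⟩
      rw [hv, Nat.add_sub_cancel]
      calc u * v + (u * u + u) = u * (v + 1) + u * u := by ring
        _ = _ := by rw [← hv]; ring
    have h6 : b + 2 ∣ u * u + u := (Nat.dvd_add_right h4).1 (h5 ▸ dvd_mul_right _ _)
    exact Nat.le_of_dvd (by positivity) h6
  set c := (b + 1) * u with hc'
  -- prime count
  set K := (range b).filter (fun i => (c + 1 + i).Prime) with hK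
  set R := (range b).filter (fun i => ¬ (c + 1 + i).Prime) with hR
  have hKc : 3 * K.card ≤ b + 3 := by
    refine le_trans (Nat.mul_le_mul_left 3 (Finset.card_le_card ?_)) (count_coprime_six (c + 1) b)
    intro i hi
    rw [hK, Finset.mem_filter] at hi
    rw [Finset.mem_filter]
    refine ⟨hi.1, ?_⟩
    have hp := hi.2
    have h2 : ¬ 2 ∣ c + 1 + i := fun hd => by
      have := (Nat.prime_dvd_prime_iff_eq Nat.prime_two hp).1 hd
      omega
    have h3 : ¬ 3 ∣ c + 1 + i := fun hd => by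
      have := (Nat.prime_dvd_prime_iff_eq Nat.prime_three hp).1 hd
      omega
    omega
  have hKR : K.card + R.card = b := by
    rw [hK, hR, Finset.card_filter_add_card_filter_not, Finset.card_range]
  have hPK : P ∣ ∏ i ∈ K, (c + 1 + i) := by
    have hP0 : P ≠ 0 := (Nat.choose_pos (by omega)).ne'
    rw [← Nat.factorization_prime_le_iff_dvd hP0
      (Finset.prod_ne_zero_iff.2 fun i _ => by omega)]
    intro p hp
    by_cases hpd : p ∣ P
    · have hcp := h p hp hpd
      have hpN : p ≤ b + c := hp.dvd_factorial.1 (hpd.trans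
        ⟨b ! * (b + c - b)!, by rw [← mul_assoc]; exact (Nat.choose_mul_factorial_mul_factorial (by omega)).symm⟩)
      have h1 : P.factorization p ≤ 1 := by
        rw [hP]
        refine Nat.factorization_choose_le_one ?_
        nlinarith
      refine h1.trans (hp.factorization_pos_of_dvd
        (Finset.prod_ne_zero_iff.2 fun i _ => by omega) ?_)
      refine (dvd_of_eq (show p = c + 1 + (p - c - 1) by omega)).trans
        (Finset.dvd_prod_of_mem (fun i => c + 1 + i) ?_)
      rw [hK, Finset.mem_filter, Finset.mem_range]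
      exact ⟨by omega, by rwa [show c + 1 + (p - c - 1) = p by omega]⟩
    · rw [Nat.factorization_eq_zero_of_not_dvd hpd]
      exact Nat.zero_le _
  have hprod : (∏ i ∈ R, (c + 1 + i)) ≤ b ! := by
    have hall : (∏ i ∈ K, (c + 1 + i)) * ∏ i ∈ R, (c + 1 + i) = b ! * P := by
      rw [hK, hR, Finset.prod_filter_mul_prod_filter_not, hP, ← Nat.ascFactorial_eq_prod_range]
      rw [Nat.ascFactorial_eq_factorial_mul_choose, add_comm c b]
    have hPpos : 0 < P := Nat.choose_pos (by omega)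
    obtain ⟨s, hs⟩ := hPK
    rw [hs] at hall
    have : s * ∏ i ∈ R, (c + 1 + i) = b ! := Nat.eq_of_mul_eq_mul_left hPpos (by linarith)
    rw [← this]
    refine Nat.le_mul_of_pos_left _ (Nat.pos_of_ne_zero fun e => ?_)
    subst e
    rw [zero_mul] at this
    exact (Nat.factorial_pos b).ne this
  have hpow : (c + 1) ^ R.card ≤ b ! := by
    refine le_trans ?_ hprod
    rw [← Finset.prod_const]
    exact Finset.prod_le_prod' fun i _ => by omega
  exfalso
  by_cases hb5 : b < 5
  · have hbig : 2 * (b + 1) ≤ c := by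
      rw [hc', mul_comm 2]
      exact Nat.mul_le_mul_left _ hu2
    interval_cases b
    · have : (c + 1) ^ 1 ≤ 2 := le_trans (Nat.pow_le_pow_right (by omega) (by omega)) hpow
      rw [pow_one] at this
      omega
    · have : (c + 1) ^ 1 ≤ 6 := le_trans (Nat.pow_le_pow_right (by omega) (by omega)) hpow
      rw [pow_one] at this
      omega
    · have : (c + 1) ^ 2 ≤ 24 := le_trans (Nat.pow_le_pow_right (by omega) (by omega)) hpow
      nlinarith
  · have hb5' : 5 ≤ b := by omega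
    have h3 : 2 * (b + 1) ^ 3 ≤ 3 * (c + 1) ^ 2 := by
      have a1 : 2 * (b + 1) ≤ 3 * (u * u) := by nlinarith
      calc 2 * (b + 1) ^ 3 = 2 * (b + 1) * (b + 1) ^ 2 := by ring
        _ ≤ 3 * (u * u) * (b + 1) ^ 2 := Nat.mul_le_mul_right _ a1
        _ = 3 * c ^ 2 := by rw [hc']; ring
        _ ≤ 3 * (c + 1) ^ 2 := Nat.mul_le_mul_left _ (Nat.pow_le_pow_left (by omega) 2)
    obtain ⟨d, hd⟩ : ∃ d, 2 * b - 3 = d := ⟨_, rfl⟩
    have h4 : ((c + 1) ^ 2) ^ d ≤ (b !) ^ 6 := by
      calc ((c + 1) ^ 2) ^ d ≤ ((c + 1) ^ 2) ^ (3 * R.card) :=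
            Nat.pow_le_pow_right (by positivity) (by omega)
        _ = ((c + 1) ^ R.card) ^ 6 := by rw [← pow_mul, ← pow_mul]; ring_nf
        _ ≤ _ := Nat.pow_le_pow_left hpow 6
    have h5 : (2 * (b + 1) ^ 3) ^ d * 2 ^ (6 * b) ≤ 3 ^ d * (b + 1) ^ (6 * b) := by
      calc (2 * (b + 1) ^ 3) ^ d * 2 ^ (6 * b) ≤ (3 * (c + 1) ^ 2) ^ d * 2 ^ (6 * b) :=
            Nat.mul_le_mul_right _ (Nat.pow_le_pow_left h3 d)
        _ ≤ 3 ^ d * (b !) ^ 6 * 2 ^ (6 * b) := by
            rw [mul_pow]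
            exact Nat.mul_le_mul_right _ (Nat.mul_le_mul_left _ h4)
        _ = 3 ^ d * (b ! * 2 ^ b) ^ 6 := by rw [mul_pow, ← pow_mul, mul_comm b 6]; ring
        _ ≤ 3 ^ d * ((b + 1) ^ b) ^ 6 :=
            Nat.mul_le_mul_left _ (Nat.pow_le_pow_left (factorial_mul_two_pow_le b) 6)
        _ = _ := by rw [← pow_mul, mul_comm b 6]
    have h6 : 2 ^ (8 * b - 3) * (b + 1) ^ (3 * d) ≤ 3 ^ d * (b + 1) ^ 9 * (b + 1) ^ (3 * d) := by
      calc 2 ^ (8 * b - 3) * (b + 1) ^ (3 * d)
          = (2 * (b + 1) ^ 3) ^ d * 2 ^ (6 * b) := by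
            rw [mul_pow, ← pow_mul, show 8 * b - 3 = d + 6 * b by omega, pow_add]; ring
        _ ≤ 3 ^ d * (b + 1) ^ (6 * b) := h5
        _ = _ := by rw [show 6 * b = 9 + 3 * d by omega, pow_add]; ring
    have h7 := Nat.le_of_mul_le_mul_right h6 (by positivity)
    have h8 := pow_gap b hb5'
    rw [hd] at h8
    omega

end CfsgLib.AltHall
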