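import Cfsg.Agent.Lib.AltHall.Binom
import Mathlib.Combinatorics.Enumerative.Bell
import Mathlib.Data.Nat.Factorial.BigOperators

/-!
Partition shapes whose stabiliser has index prime to all small primes.
-/

set_option autoImplicit false

open Finset Nat

namespace CfsgLib.AltHall

theorem uniformBell_mono {v i j : ℕ} (hij : i ≤ j) : Nat.uniformBell i v ∣ Nat.uniformBell j v := by
  induction j, hij using Nat.le_induction with
  | base => exact dvd_rfl
  | succ j _ ih => exact ih.trans (by rw [Nat.uniformBell_succ_left]; exact dvd_mul_left _ _)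

/-- Block sizes `sz`, with every prime below `t` prime to the number of partitions of this shape. -/
theorem sizes_classify {ι : Type*} [Fintype ι] (sz : ι → ℕ) {n t : ℕ} (ht : t.Prime) (ht5 : 5 ≤ t)
    (htn : t ≤ n) (hsum : ∑ i, sz i = n) (hpos : ∀ i, 1 ≤ sz i) (hne2 : ∀ i, sz i ≠ 2)
    (hlt : ∀ i, sz i < t) (h1 : (univ.filter fun i => sz i = 1).card ≤ 2)
    (hval : ∀ p : ℕ, p.Prime → p < t → (n !).factorization p ≤
      ((∏ i, (sz i)!) * ∏ v ∈ univ.image sz, ((univ.filter fun i => sz i = v).card)!).factorization p) :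
    ∃ C : ι, Fintype.card ι = 2 ∧ ((t = n ∧ sz C = 1) ∨ (t = 5 ∧ n = 7 ∧ sz C = 3) ∨
      (t = 5 ∧ n = 8 ∧ sz C = 4)) := by
  set V := univ.image sz with hV
  set cnt : ℕ → ℕ := fun v => (univ.filter fun i => sz i = v).card with hcnt
  have hV0 : ∀ v ∈ V, v ≠ 0 := by
    intro v hv
    obtain ⟨i, -, rfl⟩ := mem_image.1 hv
    have := hpos i; omega
  have hn : ∑ v ∈ V, cnt v * v = n := by
    rw [← hsum, ← Finset.sum_fiberwise_of_maps_to (g := sz) (t := V) fun i _ => mem_image_of_mem _ (mem_univ i)]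
    refine Finset.sum_congr rfl fun v _ => ?_
    rw [Finset.sum_congr rfl (g := fun _ => v) fun i hi => (mem_filter.1 hi).2, Finset.sum_const,
      smul_eq_mul]
  set D := (∏ i, (sz i)!) * ∏ v ∈ V, (cnt v)! with hD
  have hDeq : D * ∏ v ∈ V, Nat.uniformBell (cnt v) v = ∏ v ∈ V, (cnt v * v)! := by
    rw [hD, ← Finset.prod_fiberwise_of_maps_to (g := sz) (t := V) fun i _ => mem_image_of_mem _ (mem_univ i)]
    rw [← Finset.prod_mul_distrib, ← Finset.prod_mul_distrib]
    refine Finset.prod_congr rfl fun v hv => ?_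
    rw [← Nat.uniformBell_mul_eq (cnt v) (hV0 v hv),
      Finset.prod_congr rfl (g := fun _ => v !) fun i hi => by rw [(mem_filter.1 hi).2],
      Finset.prod_const]
    ring
  have hD0 : D ≠ 0 := Nat.mul_ne_zero
    (Finset.prod_ne_zero_iff.2 fun i _ => Nat.factorial_ne_zero _)
    (Finset.prod_ne_zero_iff.2 fun i _ => Nat.factorial_ne_zero _)
  -- any divisor `X` of `n!/D` has no prime divisor below `t`
  have key : ∀ X : ℕ, X * D ∣ n ! → ∀ p : ℕ, p.Prime → p ∣ X → t ≤ p := by
    intro X hX p hp hpX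
    by_contra hpt
    push Not at hpt
    have h2 := hval p hp hpt
    have h3 : p * D ∣ n ! := (mul_dvd_mul_right hpX D).trans hX
    have h4 := (Nat.factorization_le_iff_dvd (mul_ne_zero hp.ne_zero hD0) (Nat.factorial_ne_zero n)).2 h3 p
    rw [Nat.factorization_mul hp.ne_zero hD0, Finsupp.add_apply, hp.factorization_self] at h4
    change (n !).factorization p ≤ D.factorization p at h2
    omega
  have hsub : ∏ v ∈ V, (cnt v * v)! ∣ n ! := hn ▸ Nat.prod_factorial_dvd_factorial_sum V _
  have keyB : ∀ v ∈ V, ∀ p : ℕ, p.Prime → p ∣ Nat.uniformBell (cnt v) v → t ≤ p := by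
    intro v hv
    refine key _ ((mul_comm _ D).dvd.trans ((mul_dvd_mul_left D ?_).trans (hDeq.dvd.trans hsub)))
    exact Finset.dvd_prod_of_mem (fun v => Nat.uniformBell (cnt v) v) hv
  have keyC : ∀ v ∈ V, ∀ w ∈ V, v ≠ w → ∀ p : ℕ, p.Prime →
      p ∣ (cnt v * v + cnt w * w).choose (cnt v * v) → t ≤ p := by
    intro v hv w hw hvw
    refine key _ ?_
    have hv' : v ∈ V.erase w := mem_erase.2 ⟨hvw, hv⟩
    let g : ℕ → ℕ := fun u => if u = v then cnt v * v + cnt w * w else cnt u * u
    have hgs : ∑ u ∈ V.erase w, g u = n := by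
      rw [← hn, ← Finset.add_sum_erase V _ hw, ← Finset.add_sum_erase (V.erase w) _ hv',
        ← Finset.add_sum_erase (V.erase w) (fun u => cnt u * u) hv']
      simp only [g, if_pos rfl]
      rw [Finset.sum_congr rfl (g := fun u => cnt u * u) fun u hu => if_neg (mem_erase.1 hu).1]
      ring
    refine dvd_trans ?_ (hgs ▸ Nat.prod_factorial_dvd_factorial_sum (V.erase w) g)
    refine (mul_dvd_mul_left _ (Dvd.intro _ hDeq)).trans ?_
    rw [← Finset.mul_prod_erase V _ hw, ← Finset.mul_prod_erase (V.erase w) _ hv',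
      ← Finset.mul_prod_erase (V.erase w) (fun u => (g u)!) hv']
    rw [Finset.prod_congr rfl (s₁ := (V.erase w).erase v) (f := fun u => (g u)!)
      (g := fun u => (cnt u * u)!) fun u hu => by simp only [g, if_neg (mem_erase.1 hu).1]]
    simp only [g, if_pos rfl]
    rw [← Nat.choose_mul_factorial_mul_factorial (n := cnt v * v + cnt w * w) (k := cnt v * v)
      (Nat.le_add_right _ _), Nat.add_sub_cancel_left]
    exact dvd_of_eq (by ring)
  have hvlt : ∀ v ∈ V, v < t := fun v hv => by
    obtain ⟨i, -, rfl⟩ := mem_image.1 hv; exact hlt i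
  have hcpos : ∀ v ∈ V, 1 ≤ cnt v := fun v hv => by
    obtain ⟨i, -, rfl⟩ := mem_image.1 hv
    exact card_pos.2 ⟨i, mem_filter.2 ⟨mem_univ _, rfl⟩⟩
  have hv2 : ∀ v ∈ V, v ≠ 2 := fun v hv => by
    obtain ⟨i, -, rfl⟩ := mem_image.1 hv; exact hne2 i
  -- repeated sizes
  have hrep : ∀ v ∈ V, 2 ≤ cnt v → (v = 1 ∧ cnt v = 2) ∨ (v = 4 ∧ t = 5 ∧ cnt v = 2) := by
    intro v hv h2
    by_cases hv1 : v = 1
    · subst hv1; exact Or.inl ⟨rfl, le_antisymm h1 h2⟩
    have hv3 : 3 ≤ v := by have := hv2 v hv; have := hV0 v hv; omega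
    have hU : ∀ p : ℕ, p.Prime → p ∣ (2 * v - 1).choose (v - 1) → t ≤ p := fun p hp hd => by
      refine keyB v hv p hp (hd.trans (dvd_trans ?_ (uniformBell_mono h2)))
      rw [Nat.uniformBell_succ_left, Nat.uniformBell_one_left, mul_one, one_mul, two_mul]
    obtain ⟨h3, h4⟩ := binom_big (b := v - 1) (c := v) (by omega) (by omega) fun p hp hd => by
      have := hU p hp (by rwa [show 2 * v - 1 = v - 1 + v by omega])
      have := hvlt v hv
      omega
    subst h4
    have ht' : t = 5 := by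
      have := hU 5 Nat.prime_five (by decide)
      omega
    refine Or.inr ⟨rfl, ht', ?_⟩
    by_contra hne
    have h7 : Nat.uniformBell 3 4 ∣ Nat.uniformBell (cnt 4) 4 := uniformBell_mono (by omega)
    have := keyB 4 hv 3 Nat.prime_three (dvd_trans (by
      rw [Nat.uniformBell_succ_left]
      exact dvd_mul_of_dvd_left (by decide) _) h7)
    omega
  -- distinct sizes
  have hpair : ∀ v ∈ V, ∀ w ∈ V, v < w → cnt v = 1 → cnt w = 1 →
      (v = 1 ∧ t = w + 1) ∨ (v = 3 ∧ w = 4 ∧ t = 5) := by
    intro v hv w hw hvw cv cw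
    have hP := keyC v hv w hw hvw.ne
    rw [cv, cw, one_mul, one_mul] at hP
    have hwt := hvlt w hw
    by_cases hv1 : v = 1
    · subst hv1
      left
      refine ⟨rfl, ?_⟩
      rw [Nat.choose_one_right] at hP
      obtain ⟨p, hp, hpd⟩ := Nat.exists_prime_and_dvd (n := 1 + w) (by omega)
      have := hP p hp hpd
      have := Nat.le_of_dvd (by omega) hpd
      omega
    · obtain ⟨rfl, rfl⟩ := binom_big (b := v) (c := w)
        (by have := hv2 v hv; have := hV0 v hv; omega) hvw.le fun p hp hd => by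
        have := hP p hp hd; omega
      have := hP 5 Nat.prime_five (by decide)
      exact Or.inr ⟨rfl, rfl, by omega⟩
  -- no repeated singletons
  have hone : ∀ v ∈ V, v = 1 → cnt v = 1 := by
    intro v hv hv1
    subst hv1
    by_contra hne
    have hc2 : cnt 1 = 2 := le_antisymm h1 (by have := hcpos 1 hv; omega)
    obtain ⟨w, hw, hw1⟩ : ∃ w ∈ V, w ≠ 1 := by
      by_contra hall
      push Not at hall
      rw [Finset.sum_eq_single 1 (fun u hu hu1 => absurd (hall u hu) hu1) (fun h => absurd hv h),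
        hc2] at hn
      omega
    have hP := keyC 1 hv w hw (Ne.symm hw1)
    rw [hc2, mul_one] at hP
    by_cases hw2 : 2 ≤ cnt w
    · rcases hrep w hw hw2 with ⟨h, -⟩ | ⟨rfl, ht', h⟩
      · exact hw1 h
      rw [h] at hP
      have := hP 3 Nat.prime_three (by decide)
      omega
    · rw [show cnt w = 1 by have := hcpos w hw; omega, one_mul] at hP
      have := binom_big (b := 2) (c := w) le_rfl
        (by have := hV0 w hw; omega) fun p hp hd => by
          have := hP p hp hd; have := hvlt w hw; omega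
      omega
  have hcnt' : ∀ v ∈ V, cnt v = 1 ∨ (v = 4 ∧ t = 5 ∧ cnt v = 2) := by
    intro v hv
    by_cases h2 : 2 ≤ cnt v
    · rcases hrep v hv h2 with ⟨rfl, h⟩ | h
      · exact Or.inl (hone 1 hv rfl)
      · exact Or.inr h
    · exact Or.inl (by have := hcpos v hv; omega)
  have hcard : Fintype.card ι = ∑ v ∈ V, cnt v := by
    rw [← Finset.card_univ]
    exact Finset.card_eq_sum_card_image sz univ
  have hpick : ∀ v ∈ V, ∃ C : ι, sz C = v := fun v hv => by
    obtain ⟨i, -, rfl⟩ := mem_image.1 hv; exact ⟨i, rfl⟩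
  by_cases h4 : 4 ∈ V ∧ cnt 4 = 2
  · obtain ⟨h4, hc4⟩ := h4
    have ht' : t = 5 := ((hcnt' 4 h4).resolve_left (by omega)).2.1
    have hall : ∀ w ∈ V, w = 4 := by
      intro w hw
      by_contra hne
      have hP := keyC w hw 4 h4 hne
      rw [hc4, (hcnt' w hw).resolve_right (fun h => hne h.1), one_mul] at hP
      have hw5 := hvlt w hw
      have := hv2 w hw
      have := hV0 w hw
      rcases (show w = 1 ∨ w = 3 by omega) with rfl | rfl <;>
      · have := hP 3 Nat.prime_three (by decide)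
        omega
    have hV4 : V = {4} := Finset.eq_singleton_iff_unique_mem.2 ⟨h4, hall⟩
    rw [hV4, Finset.sum_singleton] at hn hcard
    obtain ⟨C, hC⟩ := hpick 4 h4
    exact ⟨C, by omega, Or.inr (Or.inr ⟨ht', by omega, hC⟩)⟩
  · have hc1 : ∀ v ∈ V, cnt v = 1 := fun v hv =>
      (hcnt' v hv).resolve_right fun h => h4 ⟨h.1 ▸ hv, h.1 ▸ h.2.2⟩
    rw [Finset.sum_congr rfl (g := fun v => v) fun v hv => by rw [hc1 v hv, one_mul]] at hn
    rw [Finset.sum_congr rfl (g := fun _ => 1) hc1, Finset.sum_const, smul_eq_mul, mul_one] at hcard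
    obtain ⟨a, ha, b, hb, hab⟩ : ∃ a ∈ V, ∃ b ∈ V, a < b := by
      by_contra hall
      push Not at hall
      rcases V.eq_empty_or_nonempty with he | ⟨a, ha⟩
      · rw [he, Finset.sum_empty] at hn; omega
      · rw [Finset.eq_singleton_iff_unique_mem.2
          (⟨ha, fun b hb => le_antisymm (hall a ha b hb) (hall b hb a ha)⟩ :
            a ∈ V ∧ ∀ b ∈ V, b = a), Finset.sum_singleton] at hn
        have := hvlt a ha
        omega
    have hV2 : V = {a, b} := by
      refine Finset.Subset.antisymm (fun x hx => ?_) (by simp [Finset.insert_subset_iff, ha, hb])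
      rw [Finset.mem_insert, Finset.mem_singleton]
      by_contra hne
      push Not at hne
      have := hpair a ha b hb hab (hc1 a ha) (hc1 b hb)
      rcases lt_trichotomy x a with h | h | h
      · have := hpair x hx a ha h (hc1 x hx) (hc1 a ha)
        have := hpair x hx b hb (h.trans hab) (hc1 x hx) (hc1 b hb)
        omega
      · exact hne.1 h
      · have := hpair a ha x hx h (hc1 a ha) (hc1 x hx)
        rcases lt_trichotomy x b with h' | h' | h'
        · have := hpair x hx b hb h' (hc1 x hx) (hc1 b hb)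
          omega
        · exact hne.2 h'
        · have := hpair b hb x hx h' (hc1 b hb) (hc1 x hx)
          omega
    rw [hV2, Finset.sum_pair hab.ne] at hn
    rw [hV2, Finset.card_pair hab.ne] at hcard
    rcases hpair a ha b hb hab (hc1 a ha) (hc1 b hb) with ⟨rfl, h⟩ | ⟨rfl, rfl, h⟩
    · obtain ⟨C, hC⟩ := hpick 1 ha
      exact ⟨C, hcard, Or.inl ⟨by omega, hC⟩⟩
    · obtain ⟨C, hC⟩ := hpick 3 ha
      exact ⟨C, hcard, Or.inr (Or.inl ⟨h, by omega, hC⟩)⟩

end CfsgLib.AltHall
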