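import Cfsg.Agent.Lib.AltHall.Small23
import Cfsg.Agent.Lib.AltHall.Sizes
import Mathlib.GroupTheory.Perm.DomMulAct

/-!
The orbits of the 3-cycles of a Hall subgroup of an alternating group.
-/

set_option autoImplicit false

open Equiv Equiv.Perm MulAction
open scoped Nat

namespace CfsgLib.AltHall

variable {α : Type*} [Fintype α] [DecidableEq α]

/-- The stabiliser of an unordered partition into two parts. -/
def pairStab (C : Finset α) : Subgroup (Perm α) where
  carrier := {g | (∀ x, g x ∈ C ↔ x ∈ C) ∨ ∀ x, g x ∈ C ↔ x ∉ C}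
  one_mem' := Or.inl fun _ => Iff.rfl
  mul_mem' := fun {a b} ha hb => by
    rcases ha with ha | ha <;> rcases hb with hb | hb
    · exact Or.inl fun x => (ha (b x)).trans (hb x)
    · exact Or.inr fun x => (ha (b x)).trans (hb x)
    · exact Or.inr fun x => (ha (b x)).trans (not_congr (hb x))
    · exact Or.inl fun x => (ha (b x)).trans ((not_congr (hb x)).trans not_not)
  inv_mem' := fun {a} ha => by
    rcases ha with ha | ha
    · refine Or.inl fun x => ?_
      simpa using (ha (a⁻¹ x)).symm
    · refine Or.inr fun x => ?_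
      have := ha (a⁻¹ x)
      simp only [Perm.coe_inv, Equiv.apply_symm_apply] at this ⊢
      tauto

/-- The group generated by the 3-cycles of `M`. -/
def threeGen (M : Subgroup (Perm α)) : Subgroup (Perm α) :=
  Subgroup.closure {g | g ∈ M ∧ g.IsThreeCycle}

/-- Orbits of `threeGen M`. -/
def threeRel (M : Subgroup (Perm α)) : Setoid α where
  r a b := ∃ g ∈ threeGen M, g a = b
  iseqv :=
    { refl := fun a => ⟨1, one_mem _, rfl⟩
      symm := fun {a b} ⟨g, hg, h⟩ => ⟨g⁻¹, inv_mem hg, by simp [← h]⟩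
      trans := fun {a b c} ⟨g, hg, h⟩ ⟨g', hg', h'⟩ =>
        ⟨g' * g, mul_mem hg' hg, by rw [Perm.mul_apply, h, h']⟩ }

theorem threeGen_le (M : Subgroup (Perm α)) : threeGen M ≤ M :=
  (Subgroup.closure_le _).2 fun _ hg => hg.1

/-- A point is fixed by all the 3-cycles of `M`, or its class has at least three points. -/
theorem class_alternative {M : Subgroup (Perm α)} (a : α) [DecidableRel (threeRel M).r] :
    (∀ b, (threeRel M).r a b → b = a) ∨
      ∃ g ∈ M, g.IsThreeCycle ∧ g a ≠ a ∧
        3 ≤ (Finset.univ.filter fun b => (threeRel M).r a b).card := by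
  by_cases h : ∃ g ∈ M, g.IsThreeCycle ∧ g a ≠ a
  · obtain ⟨g, hgM, hg, hga⟩ := h
    refine Or.inr ⟨g, hgM, hg, hga, ?_⟩
    rw [← hg.card_support]
    refine Finset.card_le_card fun z hz => Finset.mem_filter.2 ⟨Finset.mem_univ _, ?_⟩
    obtain ⟨i, -, hi⟩ := (hg.isCycle.sameCycle hga (Perm.mem_support.1 hz)).exists_pow_eq'
    exact ⟨g ^ i, pow_mem (show g ∈ threeGen M from Subgroup.subset_closure ⟨hgM, hg⟩) i, hi⟩
  · left
    push Not at h
    rintro b ⟨g, hg, rfl⟩
    exact (Subgroup.closure_le (MulAction.stabilizer (Perm α) a)).2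
      (fun g hg => h g hg.1 hg.2) hg

/-- A class with at least `t` points forces `t` into the order. -/
theorem dvd_of_large_class {M : Subgroup (Perm α)} [DecidableRel (threeRel M).r] {t : ℕ}
    (ht : t.Prime) (ht3 : 3 ≤ t) (a : α)
    (hsz : t ≤ (Finset.univ.filter fun b => (threeRel M).r a b).card) :
    t ∣ Nat.card M := by
  classical
  set O := Finset.univ.filter fun b => (threeRel M).r a b with hO
  have haO : a ∈ O := Finset.mem_filter.2 ⟨Finset.mem_univ _, (threeRel M).iseqv.refl a⟩
  rcases class_alternative (M := M) a with h | ⟨c, hcM, hc, hca, -⟩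
  · have : O.card ≤ 1 := Finset.card_le_one.2 fun x hx y hy =>
      (h x (Finset.mem_filter.1 hx).2).trans (h y (Finset.mem_filter.1 hy).2).symm
    omega
  have hcT : c ∈ threeGen M := Subgroup.subset_closure ⟨hcM, hc⟩
  have hpres : threeGen M ≤ presB O := fun g hg => mem_presB_of_mapsTo fun x hx =>
    Finset.mem_filter.2 ⟨Finset.mem_univ _,
      (threeRel M).iseqv.trans (Finset.mem_filter.1 hx).2 ⟨g, hg, rfl⟩⟩
  have hprim : IsPreprimitive (restr (threeGen M) O) {x // x ∈ O} := by
    refine preprimitive_restr haO (fun z hz => ?_) fun C hCO haC h2 hblk => ?_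
    · obtain ⟨g, hg, hgz⟩ := (Finset.mem_filter.1 hz).2
      exact ⟨g, hg, hpres hg, hgz⟩
    · have hblk' : IsBlk (threeGen M) C := fun g hg => hblk g hg (hpres hg)
      have hC : threeGen M ≤ presB C := (Subgroup.closure_le _).2 fun g hg =>
        mem_presB_of_mapsTo fun x hx => by
          by_cases hgx : g x = x
          · rwa [hgx]
          · refine block_of_cycle hblk' h2 (Subgroup.subset_closure hg) hg.2.isCycle
              (by rw [hg.2.card_support]; exact Nat.prime_three) hx hgx
              (Perm.apply_mem_support.2 (Perm.mem_support.2 hgx))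
      refine Finset.Subset.antisymm hCO fun z hz => ?_
      obtain ⟨g, hg, hgz⟩ := (Finset.mem_filter.1 hz).2
      exact hgz ▸ (hC hg a).2 haC
  have hsupp : c.support ⊆ O := fun z hz => by
    obtain ⟨i, -, hi⟩ := (hc.isCycle.sameCycle hca (Perm.mem_support.1 hz)).exists_pow_eq'
    exact Finset.mem_filter.2 ⟨Finset.mem_univ _, c ^ i, pow_mem hcT i, hi⟩
  obtain ⟨c', hc'R, -, hc'card, -⟩ := restr_cycle hcT hc.isCycle hsupp
  rw [hc.card_support] at hc'card
  have hA := Subgroup.card_dvd_of_le (alternatingGroup_le_of_isPreprimitive_of_isThreeCycle_mem hprim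
    (card_support_eq_three_iff.1 hc'card) hc'R)
  refine dvd_trans ?_ ((hA.trans (card_restr_dvd _ O)).trans
    (Subgroup.card_dvd_of_le (threeGen_le M)))
  have : Nontrivial {x // x ∈ O} := Fintype.one_lt_card_iff_nontrivial.1 (by
    rw [Fintype.card_coe]; omega)
  have h2 : t ∣ 2 * Nat.card (alternatingGroup {x // x ∈ O}) := by
    rw [Nat.card_eq_fintype_card, two_mul_card_alternatingGroup, Fintype.card_perm,
      Fintype.card_coe]
    exact ht.dvd_factorial.2 hsz
  refine (ht.dvd_mul.1 h2).resolve_left fun h => ?_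
  have := Nat.le_of_dvd two_pos h
  omega

/-- The structure of a subgroup of `A_n` behaving like a Hall `π`-subgroup, in the nontrivial case. -/
theorem classify {π : Set ℕ} {M : Subgroup (Perm α)} (hMA : M ≤ alternatingGroup α)
    (hMπ : ∀ p : ℕ, p.Prime → p ∣ Nat.card M → p ∈ π)
    (hsyl : ∀ (p : ℕ) (P : Subgroup (Perm α)), p.Prime → p ∈ π → P ≤ alternatingGroup α →
      IsPGroup p P → ∃ g : Perm α, ∀ x ∈ P, g * x * g⁻¹ ∈ M)
    (hfull : ∀ p : ℕ, p.Prime → p ∈ π →
      (Fintype.card α)!.factorization p ≤ (2 * Nat.card M).factorization p)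
    (h2 : ∃ r s : ℕ, r.Prime ∧ s.Prime ∧ r ≠ s ∧ r ∈ π ∧ s ∈ π ∧
      r ≤ Fintype.card α ∧ s ≤ Fintype.card α)
    (hns : ∃ r : ℕ, r.Prime ∧ r ≤ Fintype.card α ∧ r ∉ π) (hn : 5 ≤ Fintype.card α) :
    ∃ (C : Finset α) (t : ℕ), t.Prime ∧
      ((t = Fintype.card α ∧ C.card = 1) ∨ (t = 5 ∧ Fintype.card α = 7 ∧ C.card = 3) ∨
        (t = 5 ∧ Fintype.card α = 8 ∧ C.card = 4)) ∧
      (∀ r : ℕ, r.Prime → r ≤ Fintype.card α → (r ∈ π ↔ r < t)) ∧
      ∀ g : Perm α, (∀ m ∈ M, g * m * g⁻¹ ∈ M) → g ∈ pairStab C := by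
  classical
  obtain ⟨h2π, h3π⟩ := two_three_mem hn hMA hMπ hsyl h2
  -- the least prime not in `π`
  let t := Nat.find hns
  obtain ⟨ht, htn, htπ⟩ := Nat.find_spec hns
  have hsmall : ∀ p : ℕ, p.Prime → p < t → p ∈ π := fun p hp hpt => by
    by_contra h
    exact Nat.find_min hns hpt ⟨hp, by omega, h⟩
  have ht5 : 5 ≤ t := by
    by_contra h
    have h2t := ht.two_le
    have : t ≠ 4 := fun e => by
      have : Nat.Prime 4 := e ▸ ht
      norm_num at this
    rcases (show t = 2 ∨ t = 3 by omega) with h' | h'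
    · exact htπ (h' ▸ h2π : t ∈ π)
    · exact htπ (h' ▸ h3π : t ∈ π)
  -- classes
  let f : α → Quotient (threeRel M) := Quotient.mk _
  have hf : ∀ a b, f a = f b ↔ (threeRel M).r a b := fun a b =>
    ⟨Quotient.exact, fun h => Quotient.sound h⟩
  let sz : Quotient (threeRel M) → ℕ := fun i => (Finset.univ.filter fun a => f a = i).card
  have hszr : ∀ a, sz (f a) = (Finset.univ.filter fun b => (threeRel M).r a b).card := fun a => by
    simp only [sz]
    congr 1
    ext b
    simp only [Finset.mem_filter, Finset.mem_univ, true_and]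
    rw [eq_comm, hf]
  have hrefl : ∀ a, a ∈ Finset.univ.filter fun b => (threeRel M).r a b := fun a =>
    Finset.mem_filter.2 ⟨Finset.mem_univ _, (threeRel M).iseqv.refl a⟩
  have hpos : ∀ i, 1 ≤ sz i := by
    rintro ⟨a⟩
    show 1 ≤ sz (f a)
    rw [hszr]
    exact Finset.card_pos.2 ⟨a, hrefl a⟩
  have halt : ∀ a, sz (f a) = 1 ∨ 3 ≤ sz (f a) := fun a => by
    rw [hszr]
    rcases class_alternative (M := M) a with h | ⟨g, -, -, -, h⟩
    · left
      rw [Finset.card_eq_one]
      exact ⟨a, Finset.eq_singleton_iff_unique_mem.2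
        ⟨hrefl a, fun b hb => h b (Finset.mem_filter.1 hb).2⟩⟩
    · exact Or.inr h
  have hne2 : ∀ i, sz i ≠ 2 := by
    rintro ⟨a⟩
    show sz (f a) ≠ 2
    have := halt a
    omega
  have hlt : ∀ i, sz i < t := by
    rintro ⟨a⟩
    show sz (f a) < t
    rw [hszr]
    by_contra h
    exact htπ (hMπ t ht (dvd_of_large_class ht (by omega) a (not_lt.1 h)))
  have hsum : ∑ i, sz i = Fintype.card α :=
    (Finset.card_eq_sum_card_fiberwise fun a _ => Finset.mem_univ (f a)).symm
  -- at most two singleton classes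
  obtain ⟨P, hPA, hP, U, hU, hUc⟩ := exists_cycles (α := α) (k := Fintype.card α / 3)
    Nat.prime_three (by norm_num) (Nat.mul_div_le _ _)
  obtain ⟨g₃, hg₃⟩ := hsyl 3 P Nat.prime_three h3π hPA hP
  have hbig : ∀ x ∈ U, 3 ≤ sz (f (g₃ x)) := by
    intro x hx
    obtain ⟨d, hdP, hd, hd3, hdx⟩ := hUc x hx
    have hd' : (g₃ * d * g₃⁻¹).IsThreeCycle :=
      card_support_eq_three_iff.1 (by rw [Perm.card_support_conj, hd3])
    rw [hszr, ← hd'.card_support]
    have hmove : (g₃ * d * g₃⁻¹) (g₃ x) ≠ g₃ x := by simpa using fun h => hdx (g₃.injective h)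
    refine Finset.card_le_card fun z hz => Finset.mem_filter.2 ⟨Finset.mem_univ _, ?_⟩
    obtain ⟨i, -, hi⟩ := (hd'.isCycle.sameCycle hmove (Perm.mem_support.1 hz)).exists_pow_eq'
    exact ⟨_, pow_mem (show g₃ * d * g₃⁻¹ ∈ threeGen M from
      Subgroup.subset_closure ⟨hg₃ d hdP, hd'⟩) i, hi⟩
  have h1 : (Finset.univ.filter fun i => sz i = 1).card ≤ 2 := by
    calc (Finset.univ.filter fun i => sz i = 1).card
        ≤ ((Finset.univ \ U.map g₃.toEmbedding).image f).card := by
          refine Finset.card_le_card fun i hi => ?_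
          induction i using Quotient.inductionOn with
          | _ a =>
            refine Finset.mem_image.2 ⟨a, Finset.mem_sdiff.2 ⟨Finset.mem_univ _, fun h => ?_⟩, rfl⟩
            obtain ⟨x, hx, rfl⟩ := Finset.mem_map.1 h
            have h3 : 3 ≤ sz (f (g₃ x)) := hbig x hx
            have h4 : sz (f (g₃ x)) = 1 := (Finset.mem_filter.1 hi).2
            omega
      _ ≤ (Finset.univ \ U.map g₃.toEmbedding).card := Finset.card_image_le
      _ ≤ 2 := by
          rw [Finset.card_univ_diff, Finset.card_map, hU]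
          omega
  -- the stabiliser of the classes
  let St : Subgroup (Perm α) :=
    { carrier := {g | ∀ a b, f a = f b → f (g a) = f (g b)}
      one_mem' := fun _ _ h => h
      mul_mem' := fun {x y} hx hy a b h => hx _ _ (hy a b h)
      inv_mem' := fun {x} hx => by
        have hinj : x⁻¹ = x ^ (orderOf x - 1) := by
          refine inv_eq_of_mul_eq_one_right ?_
          rw [← pow_succ', Nat.sub_add_cancel (orderOf_pos x), pow_orderOf_eq_one]
        rw [hinj]
        generalize orderOf x - 1 = m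
        induction m with
        | zero => exact fun _ _ h => h
        | succ m ih =>
          intro a b h
          rw [pow_succ', Perm.mul_apply, Perm.mul_apply]
          exact hx _ _ (ih a b h) }
  have hSt : ∀ g : Perm α, (∀ m ∈ M, g * m * g⁻¹ ∈ M) → g ∈ St := by
    intro g hg a b hab
    obtain ⟨τ, hτ, rfl⟩ := (hf a b).1 hab
    refine (hf _ _).2 ⟨g * τ * g⁻¹, ?_, by simp⟩
    have hmap : (threeGen M).map (MulAut.conj g).toMonoidHom ≤ threeGen M := by
      rw [threeGen, MonoidHom.map_closure, Subgroup.closure_le]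
      rintro _ ⟨y, ⟨hyM, hy⟩, rfl⟩
      refine Subgroup.subset_closure ⟨hg y hyM, ?_⟩
      exact card_support_eq_three_iff.1 (by
        show (g * y * g⁻¹).support.card = 3
        rw [Perm.card_support_conj, hy.card_support])
    exact hmap (Subgroup.mem_map_of_mem _ hτ)
  let Φ : St →* Perm (Quotient (threeRel M)) :=
    { toFun := fun g =>
        Quotient.congr (g : Perm α) fun a b => ⟨fun h => (hf _ _).1 (g.2 a b ((hf a b).2 h)),
          fun h => by
            have := (g⁻¹).2 _ _ ((hf _ _).2 h)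
            simp only [Subgroup.coe_inv, Perm.coe_inv, Equiv.symm_apply_apply] at this
            exact (hf a b).1 this⟩
      map_one' := by ext ⟨a⟩; rfl
      map_mul' := fun g h => by ext ⟨a⟩; rfl }
  have hΦ : ∀ (g : St) (a : α), Φ g (f a) = f ((g : Perm α) a) := fun g a => rfl
  set D := (∏ i, (sz i)!) *
    ∏ v ∈ Finset.univ.image sz, ((Finset.univ.filter fun i => sz i = v).card)! with hD
  have hker : Nat.card Φ.ker = ∏ i, (sz i)! := by
    have e : Φ.ker ≃ {g : Perm α // f ∘ g = f} :=
      { toFun := fun g => ⟨g.1.1, funext fun a => (hΦ g.1 a).symm.trans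
          (by rw [MonoidHom.mem_ker.1 g.2]; rfl)⟩
        invFun := fun g => ⟨⟨g.1, fun a b h => by
          rw [show f (g.1 a) = f a from congrFun g.2 a, show f (g.1 b) = f b from congrFun g.2 b, h]⟩,
          MonoidHom.mem_ker.2 (by ext ⟨a⟩; exact congrFun g.2 a)⟩
        left_inv := fun g => rfl
        right_inv := fun g => rfl }
    rw [Nat.card_congr e, Nat.card_eq_fintype_card, DomMulAct.stabilizer_card]
    simp only [sz, Fintype.card_subtype]
  have hrange : Nat.card Φ.range ∣
      ∏ v ∈ Finset.univ.image sz, ((Finset.univ.filter fun i => sz i = v).card)! := by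
    let Q : Subgroup (Perm (Quotient (threeRel M))) :=
      { carrier := {σ | ∀ i, sz (σ i) = sz i}
        one_mem' := fun _ => rfl
        mul_mem' := fun {x y} hx hy i => (hx (y i)).trans (hy i)
        inv_mem' := fun {x} hx i => by simpa using (hx (x⁻¹ i)).symm }
    have hQ : Nat.card Q =
        ∏ v ∈ Finset.univ.image sz, ((Finset.univ.filter fun i => sz i = v).card)! := by
      rw [show Nat.card Q = Nat.card {σ : Perm (Quotient (threeRel M)) // sz ∘ σ = sz} from
        Nat.card_congr (Equiv.subtypeEquivRight fun σ => funext_iff.symm), Nat.card_eq_fintype_card,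
        DomMulAct.stabilizer_card']
      simp only [Fintype.card_subtype]
    rw [← hQ]
    refine Subgroup.card_dvd_of_le ?_
    rintro _ ⟨g, rfl⟩ ⟨a⟩
    show sz (Φ g (f a)) = sz (f a)
    rw [hΦ]
    simp only [sz]
    refine Finset.card_bij' (fun b _ => ((g⁻¹ : St) : Perm α) b) (fun b _ => (g : Perm α) b)
      (fun b hb => ?_) (fun b hb => ?_) (fun b _ => ?_) (fun b _ => ?_)
    · simp only [Finset.mem_filter, Finset.mem_univ, true_and] at hb ⊢
      rw [(g⁻¹).2 _ _ hb]
      simp
    · simp only [Finset.mem_filter, Finset.mem_univ, true_and] at hb ⊢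
      exact g.2 _ _ hb
    · simp
    · simp
  have hStD : Nat.card St ∣ D := by
    rw [← Subgroup.card_mul_index Φ.ker, Subgroup.index_ker, hker]
    exact mul_dvd_mul_left _ hrange
  have hMSt : M ≤ St := fun g hg => hSt g fun m hm => mul_mem (mul_mem hg hm) (inv_mem hg)
  have hD2 : 2 * Nat.card M ∣ D := by
    refine dvd_trans ?_ hStD
    obtain ⟨x, hx⟩ : ∃ x, x ∈ U := Finset.card_pos.1 (by rw [hU]; omega)
    obtain ⟨y, hy, hne⟩ : ∃ y, f (g₃ x) = f y ∧ g₃ x ≠ y := by
      have h3 : 1 < (Finset.univ.filter fun b => (threeRel M).r (g₃ x) b).card := by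
        rw [← hszr]
        exact lt_of_lt_of_le (by norm_num) (hbig x hx)
      obtain ⟨y, hy, hne⟩ := Finset.exists_mem_ne h3 (g₃ x)
      exact ⟨y, (hf _ _).2 (Finset.mem_filter.1 hy).2, hne.symm⟩
    have hswap : swap (g₃ x) y ∈ St := by
      have key : ∀ a, f (swap (g₃ x) y a) = f a := fun a => by
        rw [swap_apply_def]
        split_ifs with ha hb
        · rw [ha, hy]
        · rw [hb, hy]
        · rfl
      intro a b h
      rw [key, key, h]
    let s : St →* ℤˣ := Perm.sign.comp St.subtype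
    have hs : s.range = ⊤ := by
      rw [eq_top_iff]
      intro u _
      rcases Int.units_eq_one_or u with rfl | rfl
      · exact one_mem _
      · exact ⟨⟨_, hswap⟩, Perm.sign_swap hne⟩
    rw [← Subgroup.card_mul_index s.ker, Subgroup.index_ker, hs, Subgroup.card_top,
      Nat.card_eq_fintype_card (α := ℤˣ), Fintype.card_units_int, mul_comm]
    refine mul_dvd_mul_right ?_ 2
    rw [← Nat.card_congr (Subgroup.subgroupOfEquivOfLe hMSt).toEquiv]
    exact Subgroup.card_dvd_of_le fun g hg => MonoidHom.mem_ker.2 (Perm.mem_alternatingGroup.1 (hMA hg))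
  have hDpos : D ≠ 0 := by
    rw [hD]
    refine mul_ne_zero ?_ ?_ <;> exact Finset.prod_ne_zero_iff.2 fun _ _ => Nat.factorial_ne_zero _
  have hval : ∀ p : ℕ, p.Prime → p ∈ π → (Fintype.card α)!.factorization p ≤ D.factorization p :=
    fun p hp hpπ => (hfull p hp hpπ).trans ((Nat.factorization_le_iff_dvd
      (mul_ne_zero two_ne_zero Nat.card_pos.ne') hDpos).2 hD2 p)
  obtain ⟨C₀, hcard2, hcases⟩ := sizes_classify sz ht ht5 htn hsum hpos hne2 hlt h1
    fun p hp hpt => hval p hp (hsmall p hp hpt)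
  refine ⟨Finset.univ.filter fun a => f a = C₀, t, ht, hcases, fun r hr hrn => ⟨fun hrπ => ?_,
    hsmall r hr⟩, fun g hg => ?_⟩
  · rcases lt_trichotomy r t with h | h | h
    · exact h
    · exact absurd (h ▸ hrπ : t ∈ π) htπ
    exfalso
    have h1 : 1 ≤ D.factorization r :=
      le_trans ((hr.dvd_iff_one_le_factorization (Nat.factorial_ne_zero _)).1 (hr.dvd_factorial.2 hrn))
        (hval r hr hrπ)
    have h2 := (hr.dvd_iff_one_le_factorization hDpos).2 h1
    rcases (hr.dvd_mul.1 h2) with h3 | h3 <;>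
      obtain ⟨i, -, hi⟩ := (hr.prime.dvd_finsetProd_iff _).1 h3
    · have := hr.dvd_factorial.1 hi
      have := hlt i
      omega
    · have := hr.dvd_factorial.1 hi
      have := (Finset.card_filter_le (Finset.univ : Finset (Quotient (threeRel M)))
        fun j => sz j = i).trans (le_of_eq (Finset.card_univ.trans hcard2))
      omega
  · have hgSt := hSt g hg
    let σ := Φ ⟨g, hgSt⟩
    have hmem : ∀ x, g x ∈ (Finset.univ.filter fun a => f a = C₀) ↔ f x = σ⁻¹ C₀ := fun x => by
      simp only [Finset.mem_filter, Finset.mem_univ, true_and]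
      rw [Perm.eq_inv_iff_eq]
      exact Iff.rfl
    by_cases h : σ⁻¹ C₀ = C₀
    · exact Or.inl fun x => by rw [hmem, h]; simp
    · refine Or.inr fun x => ?_
      rw [hmem]
      simp only [Finset.mem_filter, Finset.mem_univ, true_and]
      constructor
      · intro hx hx'
        exact h (hx.symm.trans hx')
      · intro hx
        by_contra hx'
        have := Finset.card_le_univ ({f x, σ⁻¹ C₀, C₀} : Finset (Quotient (threeRel M)))
        rw [Finset.card_eq_three.2 ⟨_, _, _, hx', hx, h, rfl⟩, hcard2] at this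
        omega

end CfsgLib.AltHall
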