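import Mathlib.GroupTheory.Coxeter.Basic
import Mathlib.GroupTheory.Perm.Sign
import Mathlib.SetTheory.Cardinal.Finite
import Mathlib.Tactic

/-!
The Coxeter presentation of the symmetric group.
-/

set_option autoImplicit false

namespace CfsgLib.AltHall

variable {G : Type*} [Group G]

/-- Relations of type `A` for the first `n` terms of a sequence. -/
def ARel (f : ℕ → G) (n : ℕ) : Prop :=
  (∀ i < n, f i * f i = 1) ∧
  (∀ i j, j < n → i + 2 ≤ j → f i * f j = f j * f i) ∧
  ∀ i, i + 1 < n → f i * f (i + 1) * f i = f (i + 1) * f i * f (i + 1)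

theorem ARel.mono {f : ℕ → G} {n : ℕ} (h : ARel f (n + 1)) : ARel f n :=
  ⟨fun i hi => h.1 i (by omega), fun i j hj hij => h.2.1 i j (by omega) hij,
    fun i hi => h.2.2 i (by omega)⟩

/-- The words `f N * f (N-1) * ⋯` of length `m`. -/
def descWord (f : ℕ → G) (N : ℕ) : ℕ → G
  | 0 => 1
  | m + 1 => descWord f N m * f (N - m)

theorem descWord_zero (f : ℕ → G) (N : ℕ) : descWord f N 0 = 1 := rfl

theorem descWord_succ (f : ℕ → G) (N m : ℕ) :
    descWord f N (m + 1) = descWord f N m * f (N - m) := rfl

theorem descWord_comm {f : ℕ → G} {N : ℕ} (h : ARel f (N + 1)) :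
    ∀ m j, j + m + 1 ≤ N → descWord f N m * f j = f j * descWord f N m := by
  intro m
  induction m with
  | zero => intro j _; rw [descWord_zero, one_mul, mul_one]
  | succ m ih =>
    intro j hj
    rw [descWord_succ, mul_assoc, ← h.2.1 j (N - m) (by omega) (by omega), ← mul_assoc,
      ih j (by omega), mul_assoc]

theorem descWord_shift {f : ℕ → G} {N : ℕ} (h : ARel f (N + 1)) :
    ∀ m j, m ≤ N + 1 → j ≤ N → N + 2 ≤ j + m →
      descWord f N m * f j = f (j - 1) * descWord f N m := by
  intro m
  induction m with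
  | zero => intro j _ hj hjm; omega
  | succ m ih =>
    intro j hm hj hjm
    rcases Nat.lt_or_ge (N - m + 1) j with hlt | hge
    · rw [descWord_succ, mul_assoc, h.2.1 (N - m) j (by omega) (by omega), ← mul_assoc,
        ih j (by omega) hj (by omega), mul_assoc]
    · obtain rfl : j = N - m + 1 := by omega
      obtain ⟨m, rfl⟩ : ∃ k, m = k + 1 := ⟨m - 1, by omega⟩
      set k := N - (m + 1) with hk
      rw [descWord_succ, ← hk, descWord_succ, show N - m = k + 1 by omega,
        show k + 1 - 1 = k by omega]
      calc descWord f N m * f (k + 1) * f k * f (k + 1)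
          = descWord f N m * (f (k + 1) * f k * f (k + 1)) := by group
        _ = descWord f N m * (f k * f (k + 1) * f k) := by rw [h.2.2 k (by omega)]
        _ = (descWord f N m * f k) * f (k + 1) * f k := by group
        _ = (f k * descWord f N m) * f (k + 1) * f k := by rw [descWord_comm h m k (by omega)]
        _ = f k * (descWord f N m * f (k + 1) * f k) := by group

/-- A group with `n` generators satisfying the relations of type `A` has at most `(n+1)!` elements. -/
theorem card_le_factorial (f : ℕ → G) : ∀ n : ℕ, ARel f n →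
    Finite (Subgroup.closure (f '' Set.Iio n)) ∧
      Nat.card (Subgroup.closure (f '' Set.Iio n)) ≤ (n + 1).factorial := by
  intro n
  induction n with
  | zero =>
    intro _
    have : (f '' Set.Iio 0) = ∅ := by simp
    rw [this, Subgroup.closure_empty]
    exact ⟨inferInstance, by simp⟩
  | succ N ih =>
    intro h
    obtain ⟨hfin, hcard⟩ := ih h.mono
    set H := Subgroup.closure (f '' Set.Iio N) with hH
    set K := Subgroup.closure (f '' Set.Iio (N + 1)) with hK
    have hfH : ∀ i < N, f i ∈ H := fun i hi => Subgroup.subset_closure ⟨i, hi, rfl⟩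
    have hHK : H ≤ K := Subgroup.closure_mono (Set.image_mono (Set.Iio_subset_Iio (by omega)))
    have hwK : ∀ m, descWord f N m ∈ K := by
      intro m
      induction m with
      | zero => exact one_mem K
      | succ m ihm => exact mul_mem ihm (Subgroup.subset_closure ⟨N - m, Set.mem_Iio.2 (by omega), rfl⟩)
    let φ : H × Fin (N + 2) → K := fun x =>
      ⟨(x.1 : G) * descWord f N x.2, mul_mem (hHK x.1.2) (hwK x.2)⟩
    -- closed under right multiplication by the generators
    have hstep : ∀ x : H × Fin (N + 2), ∀ j ≤ N, ∃ y, (φ x : G) * f j = φ y := by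
      rintro ⟨g, m, hm⟩ j hj
      rcases (show j + m + 1 ≤ N ∨ j + m = N ∨ j + m = N + 1 ∨ N + 2 ≤ j + m by omega)
        with h1 | h1 | h1 | h1
      · refine ⟨⟨g * ⟨f j, hfH j (by omega)⟩, m, hm⟩, ?_⟩
        show (g : G) * descWord f N m * f j = (g : G) * f j * descWord f N m
        rw [mul_assoc, descWord_comm h m j h1, ← mul_assoc]
      · refine ⟨⟨g, m + 1, by omega⟩, ?_⟩
        show (g : G) * descWord f N m * f j = (g : G) * descWord f N (m + 1)
        rw [descWord_succ, show N - m = j by omega, mul_assoc]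
      · obtain ⟨k, rfl⟩ : ∃ k, m = k + 1 := ⟨m - 1, by omega⟩
        refine ⟨⟨g, k, by omega⟩, ?_⟩
        show (g : G) * descWord f N (k + 1) * f j = (g : G) * descWord f N k
        rw [descWord_succ, show N - k = j by omega, mul_assoc, mul_assoc, h.1 j (by omega), mul_one]
      · refine ⟨⟨g * ⟨f (j - 1), hfH (j - 1) (by omega)⟩, m, hm⟩, ?_⟩
        show (g : G) * descWord f N m * f j = (g : G) * f (j - 1) * descWord f N m
        rw [mul_assoc, descWord_shift h m j (by omega) hj h1, ← mul_assoc]
    have hsurj : Function.Surjective φ := by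
      rintro ⟨x, hx⟩
      suffices ∃ y, x = φ y from this.imp fun y hy => Subtype.ext hy.symm
      induction hx using Subgroup.closure_induction_right with
      | one => exact ⟨⟨1, 0, by omega⟩, by simp [φ, descWord_zero]⟩
      | mul_right x _ y hy ihx =>
        obtain ⟨j, hj, rfl⟩ := hy
        obtain ⟨z, rfl⟩ := ihx
        exact hstep z j (Nat.lt_succ_iff.1 hj)
      | mul_inv_cancel x _ y hy ihx =>
        obtain ⟨j, hj, rfl⟩ := hy
        obtain ⟨z, rfl⟩ := ihx
        rw [inv_eq_of_mul_eq_one_right (h.1 j hj)]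
        exact hstep z j (Nat.lt_succ_iff.1 hj)
    refine ⟨Finite.of_surjective φ hsurj, ?_⟩
    calc Nat.card K ≤ Nat.card (H × Fin (N + 2)) := Nat.card_le_card_of_surjective φ hsurj
      _ = Nat.card H * (N + 2) := by rw [Nat.card_prod, Nat.card_fin]
      _ ≤ (N + 1).factorial * (N + 2) := Nat.mul_le_mul_right _ hcard
      _ = (N + 1 + 1).factorial := by rw [Nat.factorial_succ (N + 1), mul_comm]

theorem exists_coxeterSystem_perm (n : ℕ) :
    ∃ cs : CoxeterSystem (CoxeterMatrix.A n) (Equiv.Perm (Fin (n + 1))),
      ∀ i : Fin n, cs.simple i = Equiv.swap i.castSucc i.succ := by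
  classical
  set M := CoxeterMatrix.A n with hM
  have hMe : ∀ i j : Fin n,
      M i j = if i = j then 1 else (if (j : ℕ) + 1 = i ∨ (i : ℕ) + 1 = j then 3 else 2) :=
    fun i j => rfl
  set s : Fin n → Equiv.Perm (Fin (n + 1)) := fun i => Equiv.swap i.castSucc i.succ with hs
  have hlift : CoxeterMatrix.IsLiftable M s := by
    intro i j
    rw [hMe]
    have key : ∀ a b : Fin n, (a : ℕ) + 1 = b → (s a * s b) ^ 3 = 1 := by
      intro a b hab
      have hb : b.castSucc = a.succ := Fin.ext (by simp; omega)
      have h1 : a.castSucc ≠ a.succ := by simp [Fin.ext_iff]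
      have h2 : a.castSucc ≠ b.succ := by simp [Fin.ext_iff]; omega
      have h3 : a.succ ≠ b.succ := by simp [Fin.ext_iff]; omega
      have hc : (s a * s b).IsThreeCycle := by
        simp only [hs, hb]
        rw [Equiv.swap_comm a.castSucc a.succ]
        exact Equiv.Perm.isThreeCycle_swap_mul_swap_same h1.symm h3 h2
      rw [← hc.orderOf, pow_orderOf_eq_one]
    split_ifs with h1 h2
    · subst h1; rw [pow_one, hs]; exact Equiv.swap_mul_self _ _
    · rcases h2 with h2 | h2
      · have := key j i h2
        rw [← inv_inj, inv_one, ← inv_pow, mul_inv_rev] at this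
        simpa [hs] using this
      · exact key i j h2
    · rw [pow_two]
      push Not at h2
      have hne : (i : ℕ) ≠ j := fun e => h1 (Fin.ext e)
      have hd : Equiv.Perm.Disjoint (s i) (s j) := by
        apply Equiv.Perm.disjoint_swap_swap
        simp [Fin.ext_iff]
        omega
      rw [hd.commute.symm.mul_mul_mul_comm, hs]
      simp only [Equiv.swap_mul_self, one_mul]
  let π : M.Group →* Equiv.Perm (Fin (n + 1)) := M.toCoxeterSystem.lift ⟨s, hlift⟩
  have hπ : ∀ i, π (M.simple i) = s i := fun i => M.toCoxeterSystem.lift_apply_simple hlift i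
  have hsurj : Function.Surjective π := by
    rw [← MonoidHom.range_eq_top, eq_top_iff]
    intro g _
    have hg : g ∈ Submonoid.closure (Set.range fun i : Fin n => Equiv.swap i.castSucc i.succ) := by
      rw [Equiv.Perm.mclosure_swap_castSucc_succ]; exact Submonoid.mem_top g
    refine (Submonoid.closure_le (S := π.range.toSubmonoid)).2 ?_ hg
    rintro _ ⟨i, rfl⟩
    exact ⟨M.simple i, hπ i⟩
  let f : ℕ → M.Group := fun i => if h : i < n then M.simple ⟨i, h⟩ else 1
  have hrel : ARel f n := by
    have hpow : ∀ i j : Fin n, (M.simple i * M.simple j) ^ M i j = 1 := fun i j =>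
      M.toCoxeterSystem.simple_mul_simple_pow i j
    have hinv : ∀ i : Fin n, M.simple i * M.simple i = 1 := fun i =>
      M.toCoxeterSystem.simple_mul_simple_self i
    refine ⟨fun i hi => ?_, fun i j hj hij => ?_, fun i hi => ?_⟩
    · simp only [f, dif_pos hi]; exact hinv _
    · simp only [f, dif_pos hj, dif_pos (show i < n by omega)]
      have h := hpow ⟨i, by omega⟩ ⟨j, hj⟩
      rw [hMe, if_neg (by simp [Fin.ext_iff]; omega), if_neg (by simp only; omega), pow_two] at h
      have h' := eq_inv_of_mul_eq_one_left h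
      rwa [mul_inv_rev, inv_eq_of_mul_eq_one_right (hinv _), inv_eq_of_mul_eq_one_right (hinv _)] at h'
    · simp only [f, dif_pos hi, dif_pos (show i < n by omega)]
      set a := M.simple ⟨i, by omega⟩
      set b := M.simple ⟨i + 1, hi⟩
      have h := hpow ⟨i, by omega⟩ ⟨i + 1, hi⟩
      rw [hMe, if_neg (by simp [Fin.ext_iff]), if_pos (Or.inr rfl), pow_three] at h
      have h' : (a * b * a) * (b * a * b) = 1 := by rw [← h]; simp only [mul_assoc]; rfl
      rw [eq_inv_of_mul_eq_one_left h', mul_inv_rev, mul_inv_rev,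
        inv_eq_of_mul_eq_one_right (hinv _), inv_eq_of_mul_eq_one_right (hinv _), ← mul_assoc]
  have htop : Subgroup.closure (f '' Set.Iio n) = ⊤ := by
    rw [eq_top_iff, ← M.toCoxeterSystem.subgroup_closure_range_simple, Subgroup.closure_le]
    rintro _ ⟨i, rfl⟩
    exact Subgroup.subset_closure ⟨i, i.2, by simp [f]⟩
  obtain ⟨hfin, hcard⟩ := card_le_factorial f n hrel
  rw [htop] at hfin hcard
  haveI : Finite M.Group := Finite.of_equiv _ (Subgroup.topEquiv (G := M.Group)).toEquiv
  rw [Subgroup.card_top] at hcard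
  have hbij : Function.Bijective π := by
    refine (Nat.bijective_iff_surjective_and_card π).2 ⟨hsurj, le_antisymm ?_ (Nat.card_le_card_of_surjective π hsurj)⟩
    rwa [Nat.card_eq_fintype_card (α := Equiv.Perm (Fin (n + 1))), Fintype.card_perm, Fintype.card_fin]
  exact ⟨M.toCoxeterSystem.map (MulEquiv.ofBijective π hbij), fun i => hπ i⟩

end CfsgLib.AltHall
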