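import Cfsg.Agent.Lib.AltHall.Main

/-!
The alternating groups have the full Sylow property for `π` only in the trivial cases.
-/

set_option autoImplicit false

open Equiv Equiv.Perm MulAction

namespace CfsgLib.AltHall

variable {α : Type*} [Fintype α] [DecidableEq α] {π : Set ℕ}

/-- Permutations of six points permuting three given pairs. -/
def threePairs : Subgroup (Perm (Fin 3 × Fin 2)) where
  carrier := {g | ∀ x y, x.1 = y.1 → (g x).1 = (g y).1}
  one_mem' := fun _ _ h => h
  mul_mem' := fun {a b} ha hb => fun (x y : Fin 3 × Fin 2) (h : x.1 = y.1) =>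
    ha (b x) (b y) (hb x y h)
  inv_mem' := fun {a} ha => by
    have hinj : a⁻¹ = a ^ (orderOf a - 1) := by
      refine inv_eq_of_mul_eq_one_right ?_
      rw [← pow_succ', Nat.sub_add_cancel (orderOf_pos a), pow_orderOf_eq_one]
    rw [hinj]
    generalize orderOf a - 1 = m
    induction m with
    | zero => exact fun _ _ h => h
    | succ m ih =>
      intro x y h
      rw [pow_succ', Perm.mul_apply, Perm.mul_apply]
      exact ha _ _ (ih x y h)

theorem threePairs_prime {p : ℕ} (hp : p.Prime) {g : Perm (Fin 3 × Fin 2)} (hg : g ∈ threePairs)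
    (ho : orderOf g = p) : p = 2 ∨ p = 3 := by
  have hd : p ∣ (6 : ℕ).factorial := by
    have := ho ▸ orderOf_dvd_natCard g
    rwa [Nat.card_eq_fintype_card, Fintype.card_perm, Fintype.card_prod, Fintype.card_fin,
      Fintype.card_fin] at this
  have h6 := hp.dvd_factorial.1 hd
  have h2 := hp.two_le
  interval_cases p
  · exact Or.inl rfl
  · exact Or.inr rfl
  · norm_num at hp
  · exfalso
    have hg5 : g ^ 5 = 1 := ho ▸ pow_orderOf_eq_one g
    set h : Fin 3 → Fin 3 := fun i => (g (i, 0)).1 with hh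
    have hstep : ∀ x, (g x).1 = h x.1 := fun x => hg x (x.1, 0) rfl
    have hiter : ∀ (m : ℕ) x, ((g ^ m) x).1 = h^[m] x.1 := by
      intro m
      induction m with
      | zero => simp
      | succ m ih =>
        intro x
        rw [pow_succ', Perm.mul_apply, hstep, ih, Function.iterate_succ_apply']
    have hid : ∀ f : Fin 3 → Fin 3, (∀ i, f (f (f (f (f i)))) = i) → ∀ i, f i = i := by decide
    have hfix : ∀ x, (g x).1 = x.1 := fun x => by
      rw [hstep]
      exact hid h (fun i => by simpa [hg5, Function.iterate_succ_apply'] using (hiter 5 (i, 0)).symm) _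
    have hg2 : g ^ 2 = 1 := by
      ext x : 1
      rw [pow_two, Perm.mul_apply, Perm.one_apply]
      by_cases h1 : g x = x
      · rw [h1, h1]
      · have h3 : g (g x) ≠ g x := fun h => h1 (g.injective h)
        rw [Prod.ext_iff] at h1
        rw [ne_eq, Prod.ext_iff] at h3
        have key : ∀ a b c : Fin 2, b ≠ a → c ≠ b → c = a := by decide
        exact Prod.ext ((hfix _).trans (hfix x)) (key _ _ _ (fun h => h1 ⟨hfix x, h⟩)
          (fun h => h3 ⟨hfix _, h⟩))
    have := orderOf_dvd_of_pow_eq_one hg2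
    rw [ho] at this
    norm_num at this
  · norm_num at hp

theorem not_dPi (hn : 5 ≤ Fintype.card α)
    (h2 : ∃ r s : ℕ, r.Prime ∧ s.Prime ∧ r ≠ s ∧ r ∈ π ∧ s ∈ π ∧
      r ≤ Fintype.card α ∧ s ≤ Fintype.card α)
    (hns : ∃ r : ℕ, r.Prime ∧ r ≤ Fintype.card α ∧ r ∉ π) :
    ¬ Cfsg.IsDPiGroup π (alternatingGroup α) := by
  classical
  intro hD
  obtain ⟨⟨H₀, hH₀⟩, hdom⟩ := ePi_of_dPi hD
  obtain ⟨C₀, hC₀, -, -⟩ := hall_alt_classify hn h2 hns hH₀
  -- every even π-group preserves a partition of the given shape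
  have hkey : ∀ X : Subgroup (Perm α), (∀ p : ℕ, p.Prime → p ∣ Nat.card X → p ∈ π) →
      ∃ C : Finset α, C.card = C₀.card ∧ ∀ g ∈ X, g ∈ alternatingGroup α → g ∈ pairStab C := by
    intro X hX
    obtain ⟨H, hH, hle⟩ := hdom (X.subgroupOf (alternatingGroup α)) fun p hp hd =>
      hX p hp (hd.trans (Subgroup.card_comap_dvd_of_injective X _ Subtype.val_injective))
    obtain ⟨C, hC, rfl, -⟩ := hall_alt_classify hn h2 hns hH
    exact ⟨C, hC.card_eq hC₀, fun g hgX hgA =>
      Subgroup.mem_subgroupOf.1 (hle (x := ⟨g, hgA⟩) (Subgroup.mem_subgroupOf.2 hgX))⟩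
  obtain ⟨t, ht, ht5, htn, hcases, hπ⟩ := hC₀
  rcases hcases with ⟨rfl, hc⟩ | ⟨rfl, hn7, hc⟩ | ⟨rfl, hn7, hc⟩
  · obtain ⟨S, -, hS⟩ := Finset.exists_subset_card_eq (s := (Finset.univ : Finset α)) (n := 2)
      (by rw [Finset.card_univ]; omega)
    obtain ⟨a, b, hab, rfl⟩ := Finset.card_eq_two.1 hS
    obtain ⟨C, hC, hstab⟩ := hkey (pairStab {a, b}) fun p hp hd => by
      have hpn : p ≤ Fintype.card α := by
        rw [← hp.dvd_factorial, ← Fintype.card_perm, ← Nat.card_eq_fintype_card]
        exact hd.trans (Subgroup.card_subgroup_dvd_card _)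
      rw [hπ p hp hpn]
      have := prime_dvd_pairStab ⟨a, by simp⟩ hp hd
      omega
    obtain ⟨x, rfl⟩ := Finset.card_eq_one.1 (hC.trans hc)
    have hfix : ∀ g ∈ pairStab {a, b}, g ∈ alternatingGroup α → g x = x := fun g hg hgA => by
      rcases hstab g hg hgA with h | h
      · simpa using h x
      · exfalso
        obtain ⟨u, hu⟩ := Finset.exists_mem_notMem_of_card_lt_card
          (s := ({x, g⁻¹ x} : Finset α)) (t := Finset.univ)
          (lt_of_le_of_lt Finset.card_le_two (by rw [Finset.card_univ]; omega))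
        simp only [Finset.mem_insert, Finset.mem_singleton, not_or] at hu
        have hgu : g u = x := by simpa using (h u).2 (by simpa using hu.2.1)
        exact hu.2.2 (by rw [← hgu]; simp)
    have hpres : ∀ {u v : α}, u ≠ a → u ≠ b → v ≠ a → v ≠ b →
        swap a b * swap u v ∈ pairStab {a, b} := fun {u v} hua hub hva hvb => by
      refine Or.inl fun z => ?_
      simp only [Finset.mem_insert, Finset.mem_singleton, Perm.mul_apply]
      by_cases z1 : z = u
      · subst z1
        rw [swap_apply_left, swap_apply_of_ne_of_ne hva hvb]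
        simp [hua, hub, hva, hvb]
      by_cases z2 : z = v
      · subst z2
        rw [swap_apply_right, swap_apply_of_ne_of_ne hua hub]
        simp [hua, hub, hva, hvb]
      rw [swap_apply_of_ne_of_ne z1 z2]
      by_cases z3 : z = a
      · subst z3; simp
      by_cases z4 : z = b
      · subst z4; simp
      simp [swap_apply_of_ne_of_ne z3 z4, z3, z4]
    have halt : ∀ {u v : α}, u ≠ v → swap a b * swap u v ∈ alternatingGroup α := fun {u v} huv => by
      rw [Perm.mem_alternatingGroup, map_mul, Perm.sign_swap hab, Perm.sign_swap huv]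
      decide
    obtain ⟨u, -, hu⟩ := Finset.exists_mem_notMem_of_card_lt_card
      (s := ({a, b, x} : Finset α)) (t := Finset.univ)
      (lt_of_le_of_lt Finset.card_le_three (by rw [Finset.card_univ]; omega))
    obtain ⟨v, -, hv⟩ := Finset.exists_mem_notMem_of_card_lt_card
      (s := ({a, b, x, u} : Finset α)) (t := Finset.univ)
      (lt_of_le_of_lt Finset.card_le_four (by rw [Finset.card_univ]; omega))
    simp only [Finset.mem_insert, Finset.mem_singleton, not_or] at hu hv
    by_cases hx : x = a ∨ x = b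
    · have := hfix _ (hpres hu.1 hu.2.1 hv.1 hv.2.1) (halt (fun h => hv.2.2.2 h.symm))
      rw [Perm.mul_apply, swap_apply_of_ne_of_ne (fun h => hu.2.2 h.symm) (fun h => hv.2.2.1 h.symm)]
        at this
      rcases hx with rfl | rfl <;> simp [hab, hab.symm] at this
    · push Not at hx
      have := hfix _ (hpres hx.1 hx.2 hu.1 hu.2.1) (halt (fun h => hu.2.2 h.symm))
      rw [Perm.mul_apply, swap_apply_left, swap_apply_of_ne_of_ne hu.1 hu.2.1] at this
      exact hu.2.2 this
  all_goals
    obtain ⟨e⟩ : Nonempty (Fin 3 × Fin 2 ↪ α) :=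
      Function.Embedding.nonempty_of_card_le (by simp; omega)
    obtain ⟨C, hC, hstab⟩ := hkey (threePairs.map (Perm.viaEmbeddingHom e)) fun p hp hd => by
      have : Fact p.Prime := ⟨hp⟩
      rw [Subgroup.card_map_of_injective (Perm.viaEmbeddingHom_injective e)] at hd
      obtain ⟨w, hw⟩ := exists_prime_orderOf_dvd_card' p hd
      rw [← Subgroup.orderOf_coe] at hw
      have := threePairs_prime hp w.2 hw
      exact (hπ p hp (by omega)).2 (by omega)
    obtain ⟨p₀, -, hp₀⟩ := Finset.exists_mem_notMem_of_card_lt_card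
      (s := Finset.univ.map e) (t := Finset.univ) (by simp; omega)
    have hp₀' : p₀ ∉ Set.range e := fun ⟨z, hz⟩ =>
      hp₀ (Finset.mem_map.2 ⟨z, Finset.mem_univ _, hz⟩)
    have hinv : ∀ w ∈ threePairs, Perm.sign (Perm.viaEmbeddingHom e w) = 1 →
        ∀ z, e (w z) ∈ C ↔ e z ∈ C := fun w hw hsgn z => by
      rcases hstab _ ⟨w, hw, rfl⟩ (Perm.mem_alternatingGroup.2 hsgn) with h | h
      · have := h (e z)
        rwa [Perm.viaEmbeddingHom_apply, Perm.viaEmbedding_apply] at this
      · have := h p₀
        rw [Perm.viaEmbeddingHom_apply, Perm.viaEmbedding_apply_of_notMem _ _ _ hp₀'] at this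
        exact absurd this iff_not_self
    have hrot := hinv (Equiv.prodCongr (finRotate 3) (Equiv.refl (Fin 2)))
      (fun x y h => by simp [h]) (sign_eq_one_of_pow_odd (m := 3) ⟨1, rfl⟩ (by
        rw [← map_pow, show Equiv.prodCongr (finRotate 3) (Equiv.refl (Fin 2)) ^ 3 = 1 by decide,
          map_one]))
    have hflip := hinv (swap ((0 : Fin 3), (0 : Fin 2)) (0, 1) * swap (1, 0) (1, 1))
      (by show ∀ x y : Fin 3 × Fin 2, x.1 = y.1 → _; decide) (by
        rw [map_mul, viaEmbedding_swap, viaEmbedding_swap, map_mul, Perm.sign_swap (by simp),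
          Perm.sign_swap (by simp)]
        decide)
    have hall : ∀ z, e z ∈ C ↔ e (0, 0) ∈ C := by
      have h0 := hflip (0, 0)
      have h10 := hrot (0, 0)
      have h20 := hrot (1, 0)
      have h11 := hrot (0, 1)
      have h21 := hrot (1, 1)
      rw [show (swap ((0 : Fin 3), (0 : Fin 2)) (0, 1) * swap ((1 : Fin 3), (0 : Fin 2)) (1, 1))
        (0, 0) = (0, 1) by decide] at h0
      rw [show Equiv.prodCongr (finRotate 3) (Equiv.refl (Fin 2)) (0, 0) = (1, 0) by decide] at h10
      rw [show Equiv.prodCongr (finRotate 3) (Equiv.refl (Fin 2)) (1, 0) = (2, 0) by decide] at h20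
      rw [show Equiv.prodCongr (finRotate 3) (Equiv.refl (Fin 2)) (0, 1) = (1, 1) by decide] at h11
      rw [show Equiv.prodCongr (finRotate 3) (Equiv.refl (Fin 2)) (1, 1) = (2, 1) by decide] at h21
      rintro ⟨i, j⟩
      fin_cases i <;> fin_cases j <;> simp_all
    by_cases h00 : e (0, 0) ∈ C
    · have := Finset.card_le_card (s := Finset.univ.map e) (t := C) fun z hz => by
        obtain ⟨w, -, rfl⟩ := Finset.mem_map.1 hz
        exact (hall w).2 h00
      simp at this
      omega
    · have := Finset.card_le_card (s := C) (t := Finset.univ \ Finset.univ.map e) fun z hz => by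
        refine Finset.mem_sdiff.2 ⟨Finset.mem_univ _, fun h => ?_⟩
        obtain ⟨w, -, rfl⟩ := Finset.mem_map.1 h
        exact h00 ((hall w).1 hz)
      rw [Finset.card_univ_sdiff, Finset.card_map] at this
      simp at this
      omega

end CfsgLib.AltHall
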