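import Cfsg.Agent.Lib.AltHall.Partition
import Mathlib.Data.ZMod.Basic

/-!
Four pairs inside eight points: the affine group of the cube overgroup.
-/

set_option autoImplicit false

open Equiv Equiv.Perm

namespace CfsgLib.AltHall

/-- The eight points. -/
abbrev Cube : Type := (ZMod 2 × ZMod 2) × ZMod 2

/-- The affine group of the cube. -/
def affCube : Subgroup (Perm Cube) where
  carrier := {g | ∀ a b c : Cube, g (a + b + c) = g a + g b + g c}
  one_mem' := fun _ _ _ => rfl
  mul_mem' := fun {g h} hg hh a b c => by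
    simp only [Perm.mul_apply]; rw [hh a b c, hg]
  inv_mem' := fun {g} hg a b c => by
    apply g.injective
    rw [hg]
    simp

/-- Flip the last coordinate over chosen blocks. -/
def flipCube (φ : ZMod 2 × ZMod 2 → ZMod 2) : Perm Cube where
  toFun u := (u.1, u.2 + φ u.1)
  invFun u := (u.1, u.2 - φ u.1)
  left_inv u := by simp
  right_inv u := by simp

theorem sign_blockCube : ∀ π : Perm (ZMod 2 × ZMod 2),
    Perm.sign (Equiv.prodCongr π (Equiv.refl (ZMod 2))) = 1 := by decide +kernel

theorem affine_square : ∀ π : Perm (ZMod 2 × ZMod 2), ∀ a b c,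
    π (a + b + c) = π a + π b + π c := by decide +kernel

theorem affine_flip : ∀ φ : ZMod 2 × ZMod 2 → ZMod 2, Perm.sign (flipCube φ) = 1 →
    ∀ a b c, φ (a + b + c) = φ a + φ b + φ c := by decide +kernel

theorem mem_affCube_of_pairs {g : Perm Cube} (h : ∀ u v : Cube, u.1 = v.1 ↔ (g u).1 = (g v).1)
    (hs : Perm.sign g = 1) : g ∈ affCube := by
  let π₀ : ZMod 2 × ZMod 2 → ZMod 2 × ZMod 2 := fun i => (g (i, 0)).1
  have hπ : Function.Injective π₀ := fun i k hik => ((h (i, 0) (k, 0)).2 hik)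
  let π : Perm (ZMod 2 × ZMod 2) := Equiv.ofBijective π₀ (Finite.injective_iff_bijective.1 hπ)
  let φ : ZMod 2 × ZMod 2 → ZMod 2 := fun i => (g (i, 0)).2
  have hg : ∀ i j, g (i, j) = (π i, j + φ i) := by
    intro i j
    have h1 : (g (i, j)).1 = π i := (h (i, j) (i, 0)).1 rfl
    have hj : j = 0 ∨ j = 1 := (show ∀ y : ZMod 2, y = 0 ∨ y = 1 by decide) j
    rcases hj with rfl | rfl
    · exact Prod.ext h1 (by simp [φ])
    · refine Prod.ext h1 ?_
      have hne : (g (i, 1)).2 ≠ (g (i, 0)).2 := fun e => by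
        simpa using g.injective (Prod.ext h1 e : g (i, 1) = g (i, 0))
      have key : ∀ x y : ZMod 2, x ≠ y → x = 1 + y := by decide
      exact key _ _ hne
  have hdec : g = Equiv.prodCongr π (Equiv.refl (ZMod 2)) * flipCube φ := by
    apply Equiv.ext
    rintro ⟨i, j⟩
    rw [hg]
    rfl
  rw [hdec, map_mul, sign_blockCube, one_mul] at hs
  rintro ⟨i, x⟩ ⟨k, y⟩ ⟨l, z⟩
  simp only [Prod.mk_add_mk, hg, affine_square π, affine_flip φ hs, Prod.mk.injEq, true_and]
  abel

theorem exists_affine_not_pairs : ∃ w ∈ affCube, Perm.sign w = 1 ∧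
    ∃ u v : Cube, u.1 = v.1 ∧ (w u).1 ≠ (w v).1 := by
  refine ⟨swap (((1, 0), 0) : Cube) ((0, 0), 1) * swap (((1, 1), 0) : Cube) ((0, 1), 1), ?_, ?_,
    ((0, 0), 0), ((0, 0), 1), rfl, by decide⟩
  · show ∀ a b c : Cube, _
    decide +kernel
  · decide +kernel

theorem not_affine_threeCycle : ∃ w : Perm Cube, Perm.sign w = 1 ∧ w ∉ affCube := by
  refine ⟨swap (((0, 0), 0) : Cube) ((0, 0), 1) * swap (((0, 0), 1) : Cube) ((1, 0), 0),
    by decide +kernel, fun h => ?_⟩
  have := h ((0, 0), 0) ((0, 1), 0) ((1, 0), 0)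
  revert this
  decide +kernel

theorem not_isCoatom_fourPairs {Ω : Type*} [Fintype Ω] [DecidableEq Ω] {f : Ω → Fin 4}
    (hf : ∀ i : Fin 4, Nat.card {x : Ω // f x = i} = 2) :
    ¬ IsCoatom ((partStab f ⊓ alternatingGroup Ω).subgroupOf (alternatingGroup Ω)) := by
  obtain ⟨e₀, he₀⟩ := exists_coord hf
  let ι : Fin 4 ≃ ZMod 2 × ZMod 2 := Fintype.equivOfCardEq (by simp)
  let κ : Fin 2 ≃ ZMod 2 := Fintype.equivOfCardEq (by simp)
  let e : Ω ≃ Cube := e₀.trans (Equiv.prodCongr ι κ)
  have he : ∀ x, (e x).1 = ι (f x) := fun x => by rw [← he₀ x]; rfl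
  have hsign : ∀ g : Perm Ω, Perm.sign (e.permCongr g) = Perm.sign g := fun g => Perm.sign_permCongr e g
  intro hco
  have hlt : (partStab f ⊓ alternatingGroup Ω).subgroupOf (alternatingGroup Ω) <
      (affCube.comap e.permCongrHom.toMonoidHom).subgroupOf (alternatingGroup Ω) := by
    refine lt_of_le_of_ne (fun g hg => ?_) fun heq => ?_
    · refine mem_affCube_of_pairs (fun u v => ?_)
        ((hsign g).trans (Perm.mem_alternatingGroup.1 g.2))
      have h1 : ∀ u, ((e.permCongr (g : Perm Ω)) u).1 = ι (f ((g : Perm Ω) (e.symm u))) := fun u => by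
        rw [Equiv.permCongr_apply, he]
      have h2 : ∀ u : Cube, u.1 = ι (f (e.symm u)) := fun u => by rw [← he, Equiv.apply_symm_apply]
      show _ ↔ ((e.permCongr (g : Perm Ω)) u).1 = ((e.permCongr (g : Perm Ω)) v).1
      rw [h1, h1, h2 u, h2 v, ι.injective.eq_iff, ι.injective.eq_iff]
      exact hg.1 _ _
    · obtain ⟨w, hw, hws, u, v, huv, hne⟩ := exists_affine_not_pairs
      have hwA : e.symm.permCongr w ∈ alternatingGroup Ω :=
        Perm.mem_alternatingGroup.2 ((Perm.sign_permCongr e.symm w).trans hws)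
      have hmem : (⟨_, hwA⟩ : alternatingGroup Ω) ∈
          (affCube.comap e.permCongrHom.toMonoidHom).subgroupOf (alternatingGroup Ω) := by
        show e.permCongr (e.symm.permCongr w) ∈ affCube
        convert hw using 1
        ext x : 1
        simp
      rw [← heq] at hmem
      have h2 : ∀ u : Cube, u.1 = ι (f (e.symm u)) := fun u => by rw [← he, Equiv.apply_symm_apply]
      apply hne
      have := (hmem.1 (e.symm u) (e.symm v)).1 (ι.injective (by rw [← h2, ← h2, huv]))
      change f (e.symm.permCongr w (e.symm u)) = f (e.symm.permCongr w (e.symm v)) at this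
      simp only [Equiv.permCongr_apply, Equiv.symm_symm, Equiv.apply_symm_apply] at this
      rw [h2 (w u), h2 (w v), this]
  obtain ⟨w, hws, hw⟩ := not_affine_threeCycle
  have hwA : e.symm.permCongr w ∈ alternatingGroup Ω :=
    Perm.mem_alternatingGroup.2 ((Perm.sign_permCongr e.symm w).trans hws)
  have h : e.permCongr (e.symm.permCongr w) ∈ affCube :=
    (hco.2 _ hlt ▸ Subgroup.mem_top (⟨_, hwA⟩ : alternatingGroup Ω) :
      (⟨_, hwA⟩ : alternatingGroup Ω) ∈
        (affCube.comap e.permCongrHom.toMonoidHom).subgroupOf (alternatingGroup Ω))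
  apply hw
  convert h using 1
  ext x : 1
  simp

end CfsgLib.AltHall
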