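import Cfsg.Agent.Lib.AltHall.Classes
import Cfsg.Prelude.Def_HallClasses
import Mathlib.Logic.Equiv.Fintype

/-!
Hall subgroups of symmetric and alternating groups.
-/

set_option autoImplicit false

open Equiv Equiv.Perm MulAction
open scoped Nat

namespace CfsgLib.AltHall

section Generic

variable {G : Type*} [Group G] [Finite G] {π : Set ℕ}

theorem isPiHall_iff {H : Subgroup G} :
    Cfsg.IsPiHall π H ↔ (∀ p : ℕ, p.Prime → p ∣ Nat.card H → p ∈ π) ∧
      ∀ p : ℕ, p.Prime → p ∈ π → (Nat.card G).factorization p ≤ (Nat.card H).factorization p := by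
  refine and_congr_right' (forall_congr' fun p => forall_congr' fun hp => forall_congr' fun _ => ?_)
  rw [hp.dvd_iff_one_le_factorization Subgroup.index_ne_zero_of_finite,
    ← Subgroup.card_mul_index H, Nat.factorization_mul Nat.card_pos.ne'
      Subgroup.index_ne_zero_of_finite, Finsupp.add_apply]
  omega

/-- A Hall subgroup is maximal among the `π`-subgroups. -/
theorem eq_of_hall_le {H K : Subgroup G} (hH : Cfsg.IsPiHall π H) (hle : H ≤ K)
    (hK : ∀ p : ℕ, p.Prime → p ∣ Nat.card K → p ∈ π) : H = K := by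
  refine le_antisymm hle ?_
  rw [← Subgroup.relIndex_eq_one]
  by_contra h
  obtain ⟨p, hp, hpd⟩ := Nat.exists_prime_and_dvd h
  refine hH.2 p hp (hK p hp (hpd.trans ?_)) (hpd.trans (Subgroup.relIndex_dvd_index_of_le hle))
  exact Subgroup.relIndex_dvd_card H K

theorem hall_inter_normal {H : Subgroup G} (hH : Cfsg.IsPiHall π H) (N : Subgroup G) [N.Normal] :
    Cfsg.IsPiHall π (H.subgroupOf N) := by
  have hcard : Nat.card (H.subgroupOf N) * N.relIndex H = Nat.card H := by
    rw [Subgroup.relIndex, ← Subgroup.card_mul_index (N.subgroupOf H)]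
    congr 1
    exact Nat.card_congr
      { toFun := fun g => ⟨⟨g.1.1, g.2⟩, g.1.2⟩
        invFun := fun g => ⟨⟨g.1.1, g.2⟩, g.1.2⟩
        left_inv := fun g => rfl
        right_inv := fun g => rfl }
  rw [isPiHall_iff] at hH ⊢
  refine ⟨fun p hp hd => hH.1 p hp (hd.trans ⟨_, hcard.symm⟩), fun p hp hpπ => ?_⟩
  have h1 := hH.2 p hp hpπ
  have hrel : N.relIndex H ≠ 0 := Subgroup.index_ne_zero_of_finite
  have h2 : (N.relIndex H).factorization p ≤ N.index.factorization p :=
    (Nat.factorization_le_iff_dvd hrel Subgroup.index_ne_zero_of_finite).2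
      (Subgroup.relIndex_dvd_index_of_normal N H) p
  rw [← hcard, ← Subgroup.card_mul_index N, Nat.factorization_mul Nat.card_pos.ne' hrel,
    Nat.factorization_mul Nat.card_pos.ne' Subgroup.index_ne_zero_of_finite,
    Finsupp.add_apply, Finsupp.add_apply] at h1
  omega

/-- When at most one prime of `π` divides the order, Sylow's theorems give everything. -/
theorem one_prime (h : ∀ r s : ℕ, r.Prime → s.Prime → r ∈ π → s ∈ π → r ∣ Nat.card G →
      s ∣ Nat.card G → r = s) :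
    Cfsg.IsCPiGroup π G ∧ Cfsg.IsDPiGroup π G ∧
      ∀ K : Subgroup G, (∀ p : ℕ, p.Prime → p ∣ Nat.card K → p ∈ π) →
        ∃ H, Cfsg.IsPiHall π H ∧ K ≤ H := by
  by_cases hex : ∃ p : ℕ, p.Prime ∧ p ∈ π ∧ p ∣ Nat.card G
  · obtain ⟨p, hp, hpπ, hpG⟩ := hex
    have : Fact p.Prime := ⟨hp⟩
    have honly : ∀ q : ℕ, q.Prime → q ∈ π → q ∣ Nat.card G → q = p := fun q hq hqπ hqd =>
      h q p hq hp hqπ hpπ hqd hpG
    have hpg : ∀ K : Subgroup G, (∀ q : ℕ, q.Prime → q ∣ Nat.card K → q ∈ π) → IsPGroup p K := by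
      intro K hK
      exact IsPGroup.of_card (n := (Nat.card K).primeFactorsList.length)
        (Nat.eq_prime_pow_of_unique_prime_dvd Nat.card_pos.ne' fun {q} hq hqK =>
          honly q hq (hK q hq hqK) (hqK.trans (Subgroup.card_subgroup_dvd_card K)))
    have hsyl : ∀ P : Sylow p G, Cfsg.IsPiHall π (P : Subgroup G) := by
      intro P
      refine ⟨fun q hq hqd => ?_, fun q hq hqπ hqd => ?_⟩
      · obtain ⟨k, hk⟩ := IsPGroup.iff_card.1 P.isPGroup'
        rw [hk] at hqd
        rwa [(Nat.prime_dvd_prime_iff_eq hq hp).1 (hq.dvd_of_dvd_pow hqd)]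
      · have := honly q hq hqπ (hqd.trans (Subgroup.index_dvd_card _))
        subst this
        exact P.not_dvd_index hqd
    have hle : ∀ K : Subgroup G, (∀ q : ℕ, q.Prime → q ∣ Nat.card K → q ∈ π) →
        ∃ P : Sylow p G, K ≤ P := fun K hK => (hpg K hK).exists_le_sylow
    have hconj : ∀ P Q : Sylow p G, ∃ g : G,
        (Q : Subgroup G) = (P : Subgroup G).map (MulAut.conj g).toMonoidHom := fun P Q => by
      obtain ⟨g, hg⟩ := exists_smul_eq G P Q
      exact ⟨g, by rw [← hg]; rfl⟩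
    obtain ⟨P₀⟩ : Nonempty (Sylow p G) := inferInstance
    refine ⟨⟨⟨_, hsyl P₀⟩, fun H K hH hK => ?_⟩, fun H K hH hK => ?_, fun K hK => ?_⟩
    · obtain ⟨P, hP⟩ := hle H hH.1
      obtain ⟨Q, hQ⟩ := hle K hK.1
      rw [eq_of_hall_le hH hP (hsyl P).1, eq_of_hall_le hK hQ (hsyl Q).1]
      exact hconj P Q
    · obtain ⟨P, hP⟩ := hle H hH.prop
      obtain ⟨Q, hQ⟩ := hle K hK.prop
      rw [le_antisymm hP (hH.2 (hsyl P).1 hP), le_antisymm hQ (hK.2 (hsyl Q).1 hQ)]
      exact hconj P Q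
    · obtain ⟨P, hP⟩ := hle K hK
      exact ⟨_, hsyl P, hP⟩
  · push Not at hex
    have hbot : ∀ K : Subgroup G, (∀ q : ℕ, q.Prime → q ∣ Nat.card K → q ∈ π) → K = ⊥ := by
      intro K hK
      by_contra hne
      obtain ⟨q, hq, hqK⟩ := Nat.exists_prime_and_dvd (fun h => hne (Subgroup.card_eq_one.1 h))
      exact hex q hq (hK q hq hqK) (hqK.trans (Subgroup.card_subgroup_dvd_card K))
    have hall : Cfsg.IsPiHall π (⊥ : Subgroup G) := by
      refine ⟨fun q hq hqd => ?_, fun q hq hqπ hqd => ?_⟩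
      · rw [Subgroup.card_bot, Nat.dvd_one] at hqd
        exact absurd hqd hq.ne_one
      · exact hex q hq hqπ (hqd.trans (Subgroup.index_dvd_card _))
    refine ⟨⟨⟨_, hall⟩, fun H K hH hK => ⟨1, ?_⟩⟩, fun H K hH hK => ⟨1, ?_⟩,
      fun K hK => ⟨⊥, hall, (hbot K hK).le⟩⟩
    · rw [hbot H hH.1, hbot K hK.1, Subgroup.map_bot]
    · rw [hbot H hH.prop, hbot K hK.prop, Subgroup.map_bot]

/-- When every prime divisor lies in `π`. -/
theorem all_primes (h : ∀ r : ℕ, r.Prime → r ∣ Nat.card G → r ∈ π) :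
    Cfsg.IsPiHall π (⊤ : Subgroup G) ∧ (∀ H : Subgroup G, Cfsg.IsPiHall π H → H = ⊤) ∧
      Cfsg.IsCPiGroup π G ∧ Cfsg.IsDPiGroup π G := by
  have htop : Cfsg.IsPiHall π (⊤ : Subgroup G) := by
    refine ⟨fun p hp hd => h p hp (by rwa [Subgroup.card_top] at hd), fun p hp _ hd => ?_⟩
    rw [Subgroup.index_top, Nat.dvd_one] at hd
    exact hp.ne_one hd
  have huniq : ∀ H : Subgroup G, Cfsg.IsPiHall π H → H = ⊤ := fun H hH =>
    eq_of_hall_le hH le_top htop.1
  refine ⟨htop, huniq, ⟨⟨_, htop⟩, fun H K hH hK => ⟨1, ?_⟩⟩, fun H K hH hK => ⟨1, ?_⟩⟩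
  · rw [huniq H hH, huniq K hK]
    exact (Subgroup.map_top_of_surjective _ (MulAut.conj (1 : G)).surjective).symm
  · rw [le_antisymm le_top (hH.2 htop.1 le_top), le_antisymm le_top (hK.2 htop.1 le_top)]
    exact (Subgroup.map_top_of_surjective _ (MulAut.conj (1 : G)).surjective).symm

/-- In a group with the full Sylow property, maximal `π`-subgroups are Hall subgroups. -/
theorem ePi_of_dPi (h : Cfsg.IsDPiGroup π G) : Cfsg.IsEPiGroup π G ∧
    ∀ K : Subgroup G, (∀ p : ℕ, p.Prime → p ∣ Nat.card K → p ∈ π) →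
      ∃ H, Cfsg.IsPiHall π H ∧ K ≤ H := by
  have hmax : ∀ K : Subgroup G, (∀ p : ℕ, p.Prime → p ∣ Nat.card K → p ∈ π) →
      ∃ H, Maximal (Cfsg.IsPiSubgroup π) H ∧ K ≤ H := fun K hK => by
    obtain ⟨H, hKH, hH⟩ := exists_maximal_ge_of_wellFoundedGT (Cfsg.IsPiSubgroup π) K hK
    exact ⟨H, hH, hKH⟩
  have hall : ∀ H : Subgroup G, Maximal (Cfsg.IsPiSubgroup π) H → Cfsg.IsPiHall π H := by
    intro H hH
    rw [isPiHall_iff]
    refine ⟨hH.prop, fun p hp hpπ => ?_⟩
    have : Fact p.Prime := ⟨hp⟩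
    obtain ⟨P⟩ : Nonempty (Sylow p G) := inferInstance
    obtain ⟨K, hK, hPK⟩ := hmax P fun q hq hqd => by
      rw [P.card_eq_multiplicity] at hqd
      rwa [(Nat.prime_dvd_prime_iff_eq hq hp).1 (hq.dvd_of_dvd_pow hqd)]
    obtain ⟨g, hg⟩ := h K H hK hH
    have hd : p ^ (Nat.card G).factorization p ∣ Nat.card H := by
      rw [hg, Subgroup.card_map_of_injective (MulAut.conj g).injective, ← P.card_eq_multiplicity]
      exact Subgroup.card_dvd_of_le hPK
    exact (hp.pow_dvd_iff_le_factorization Nat.card_pos.ne').1 hd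
  refine ⟨?_, fun K hK => ?_⟩
  · obtain ⟨H, hH, -⟩ := hmax ⊥ fun q hq hqd => by
      rw [Subgroup.card_bot, Nat.dvd_one] at hqd
      exact absurd hqd hq.ne_one
    exact ⟨H, hall H hH⟩
  · obtain ⟨H, hH, hKH⟩ := hmax K hK
    exact ⟨H, hall H hH, hKH⟩

end Generic

variable {α : Type*} [Fintype α] [DecidableEq α] {π : Set ℕ}

theorem card_perm_alt [Nontrivial α] :
    (Fintype.card α)! = 2 * Nat.card (alternatingGroup α) := by
  rw [Nat.card_eq_fintype_card, two_mul_card_alternatingGroup, Fintype.card_perm]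

theorem prime_dvd_alt {r : ℕ} (hr : r.Prime) (hn : 4 ≤ Fintype.card α) :
    r ∣ Nat.card (alternatingGroup α) ↔ r ≤ Fintype.card α := by
  have : Nontrivial α := Fintype.one_lt_card_iff_nontrivial.1 (by omega)
  refine ⟨fun h => hr.dvd_factorial.1 ?_, fun h => ?_⟩
  · rw [card_perm_alt]
    exact dvd_mul_of_dvd_right h 2
  · have h1 : r ∣ 2 * Nat.card (alternatingGroup α) := by
      rw [← card_perm_alt]
      exact hr.dvd_factorial.2 h
    rcases hr.dvd_mul.1 h1 with h2 | h2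
    · rw [(Nat.prime_dvd_prime_iff_eq hr Nat.prime_two).1 h2]
      have h4 : 4 ∣ (Fintype.card α)! := Nat.dvd_factorial (by norm_num) hn
      rw [card_perm_alt] at h4
      omega
    · exact h2

/-- A finite set with the shape of the classification. -/
def Shape (π : Set ℕ) (C : Finset α) : Prop :=
  ∃ t : ℕ, t.Prime ∧ 5 ≤ t ∧ t ≤ Fintype.card α ∧
    ((t = Fintype.card α ∧ C.card = 1) ∨ (t = 5 ∧ Fintype.card α = 7 ∧ C.card = 3) ∨
      (t = 5 ∧ Fintype.card α = 8 ∧ C.card = 4)) ∧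
    ∀ r : ℕ, r.Prime → r ≤ Fintype.card α → (r ∈ π ↔ r < t)

theorem card_presB (C : Finset α) :
    Nat.card (presB C) = C.card ! * (Fintype.card α - C.card)! := by
  classical
  have e : presB C ≃ {g : Perm α // (fun x => decide (x ∈ C)) ∘ g = fun x => decide (x ∈ C)} :=
    { toFun := fun g => ⟨g.1, funext fun x => by simp [g.2 x]⟩
      invFun := fun g => ⟨g.1, fun x => by simpa using congrFun g.2 x⟩
      left_inv := fun g => rfl
      right_inv := fun g => rfl }
  rw [Nat.card_congr e, Nat.card_eq_fintype_card, DomMulAct.stabilizer_card, Fintype.prod_bool,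
    Fintype.card_subtype, Fintype.card_subtype]
  simp [Finset.filter_not, Finset.card_univ_diff]

theorem presB_le_pairStab (C : Finset α) : presB C ≤ pairStab C := fun _ h => Or.inl h

theorem two_mul_presB_dvd (C : Finset α) (hC : C.card + C.card = Fintype.card α) (hne : C.Nonempty) :
    2 * Nat.card (presB C) ∣ Nat.card (pairStab C) := by
  classical
  obtain ⟨x₀, hx₀⟩ := hne
  have hc : Fintype.card {x // x ∈ C} = Fintype.card {x // x ∈ Cᶜ} := by
    rw [Fintype.card_coe, Fintype.card_coe, Finset.card_compl]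
    omega
  obtain ⟨e⟩ := Fintype.card_eq.1 hc
  have hs : ∀ x, e.extendSubtype x ∈ C ↔ x ∉ C := fun x => by
    by_cases hx : x ∈ C
    · simp only [hx, not_true_eq_false, iff_false]
      exact Finset.mem_compl.1 (Equiv.extendSubtype_mem e x hx)
    · simp only [hx, not_false_eq_true, iff_true]
      by_contra h
      exact Equiv.extendSubtype_not_mem e x hx (Finset.mem_compl.2 h)
  have hindex : ((presB C).subgroupOf (pairStab C)).index = 2 := by
    rw [Subgroup.index_eq_two_iff]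
    refine ⟨⟨e.extendSubtype, Or.inr hs⟩, fun b => ?_⟩
    rcases b.2 with hb | hb
    · refine Or.inr ⟨Subgroup.mem_subgroupOf.2 hb, fun h => ?_⟩
      have := Subgroup.mem_subgroupOf.1 h x₀
      change (b : Perm α) (e.extendSubtype x₀) ∈ C ↔ x₀ ∈ C at this
      rw [hb, hs] at this
      exact (this.2 hx₀) hx₀
    · refine Or.inl ⟨Subgroup.mem_subgroupOf.2 fun x => ?_, fun h => ?_⟩
      · change (b : Perm α) (e.extendSubtype x) ∈ C ↔ x ∈ C
        rw [hb, hs, not_not]
      · have := Subgroup.mem_subgroupOf.1 h x₀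
        change (b : Perm α) x₀ ∈ C ↔ x₀ ∈ C at this
        rw [hb] at this
        exact (this.2 hx₀) hx₀
  rw [← Nat.card_congr (Subgroup.subgroupOfEquivOfLe (presB_le_pairStab C)).toEquiv,
    ← Subgroup.card_mul_index ((presB C).subgroupOf (pairStab C)), hindex, mul_comm]

theorem prime_dvd_pairStab {C : Finset α} (hne : C.Nonempty) {p : ℕ} (hp : p.Prime)
    (hd : p ∣ Nat.card (pairStab C)) : p = 2 ∨ p ≤ C.card ∨ p ≤ Fintype.card α - C.card := by
  classical
  by_contra hcon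
  push Not at hcon
  obtain ⟨hp2, hpC, hpC'⟩ := hcon
  have : Fact p.Prime := ⟨hp⟩
  obtain ⟨g, hg⟩ := exists_prime_orderOf_dvd_card' p hd
  have hgp : (g : Perm α) ^ p = 1 := by
    rw [← Subgroup.coe_pow, ← hg, pow_orderOf_eq_one, Subgroup.coe_one]
  have hpres : (g : Perm α) ∈ presB C := by
    rcases g.2 with h | h
    · exact h
    · exfalso
      obtain ⟨x, hx⟩ := hne
      have : ∀ m : ℕ, ((g : Perm α) ^ m) x ∈ C ↔ Even m := by
        intro m
        induction m with
        | zero => simp [hx]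
        | succ m ih =>
          rw [pow_succ', Perm.mul_apply, h, ih, Nat.even_add_one]
      have h1 := (this p).1 (by rw [hgp]; simpa using hx)
      exact Nat.not_even_iff_odd.2 (hp.odd_of_ne_two hp2) h1
  have hd' : p ∣ Nat.card (presB C) := by
    rw [← hg, ← Subgroup.orderOf_coe]
    exact Subgroup.orderOf_dvd_natCard _ hpres
  rw [card_presB] at hd'
  rcases hp.dvd_mul.1 hd' with h | h <;> have := hp.dvd_factorial.1 h <;> omega

theorem Shape.pairStab_pi {C : Finset α} (h : Shape π C) :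
    ∀ p : ℕ, p.Prime → p ∣ Nat.card (pairStab C) → p ∈ π := by
  obtain ⟨t, ht, ht5, htn, hcases, hπ⟩ := h
  intro p hp hd
  have hne : C.Nonempty := Finset.card_pos.1 (by omega)
  have hpn : p ≤ Fintype.card α := by
    rw [← hp.dvd_factorial, ← Fintype.card_perm, ← Nat.card_eq_fintype_card]
    exact hd.trans (Subgroup.card_subgroup_dvd_card _)
  rw [hπ p hp hpn]
  have := prime_dvd_pairStab hne hp hd
  omega

theorem Shape.isPiHall {C : Finset α} (h : Shape π C) : Cfsg.IsPiHall π (pairStab C) := by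
  refine ⟨h.pairStab_pi, fun p hp hpπ hd => ?_⟩
  have hpn : p ≤ Fintype.card α := by
    rw [← hp.dvd_factorial, ← Fintype.card_perm, ← Nat.card_eq_fintype_card]
    exact hd.trans (Subgroup.index_dvd_card _)
  obtain ⟨t, ht, ht5, htn, hcases, hπ⟩ := h
  have hpt := (hπ p hp hpn).1 hpπ
  have htot := Subgroup.card_mul_index (pairStab C)
  rw [Nat.card_eq_fintype_card (α := Perm α), Fintype.card_perm] at htot
  have hdvd : ∀ (m k : ℕ), k ∣ Nat.card (pairStab C) → k * m = (Fintype.card α)! →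
      (pairStab C).index ∣ m := fun m k hk hkm => by
    obtain ⟨a, ha⟩ := hk
    refine ⟨a, Nat.eq_of_mul_eq_mul_left (Nat.pos_of_ne_zero ?_ : 0 < k) ?_⟩
    · rintro rfl
      rw [zero_mul] at hkm
      exact (Nat.factorial_ne_zero _ hkm.symm)
    · rw [hkm, ← htot, ha]
      ring
  have hle := Subgroup.card_dvd_of_le (presB_le_pairStab C)
  rw [card_presB] at hle
  rcases hcases with ⟨rfl, hc⟩ | ⟨rfl, hn, hc⟩ | ⟨rfl, hn, hc⟩
  · rw [hc, Nat.factorial_one, one_mul] at hle
    have := hd.trans (hdvd _ _ hle (by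
      rw [mul_comm, Nat.mul_factorial_pred (by omega)]))
    exact hpt.ne ((Nat.prime_dvd_prime_iff_eq hp ht).1 this)
  · rw [hc, hn] at hle
    have := hd.trans (hdvd 35 _ hle (by rw [hn]; decide))
    interval_cases p <;> simp_all (config := { decide := true })
  · have h2 := two_mul_presB_dvd C (by omega) (Finset.card_pos.1 (by omega))
    rw [card_presB, hc, hn] at h2
    have := hd.trans (hdvd 35 _ h2 (by rw [hn]; decide))
    interval_cases p <;> simp_all (config := { decide := true })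

theorem Shape.card_eq {C C' : Finset α} (h : Shape π C) (h' : Shape π C') : C.card = C'.card := by
  obtain ⟨t, ht, ht5, htn, hcases, hπ⟩ := h
  obtain ⟨t', ht', ht5', htn', hcases', hπ'⟩ := h'
  have h1 := hπ t ht htn
  have h2 := hπ' t ht htn
  have h3 := hπ t' ht' htn'
  have h4 := hπ' t' ht' htn'
  have : t = t' := by
    rcases lt_trichotomy t t' with h | h | h
    · exact absurd (h1.1 (h2.2 h)) (lt_irrefl t)
    · exact h
    · exact absurd (h4.1 (h3.2 h)) (lt_irrefl t')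
  omega

/-- Two sets of the same shape are conjugate by an even permutation. -/
theorem exists_even_conj {C C' : Finset α} (hc : C.card = C'.card)
    (hbig : 2 ≤ Fintype.card α - C.card) :
    ∃ σ ∈ alternatingGroup α, pairStab C' = (pairStab C).map (MulAut.conj σ).toMonoidHom := by
  classical
  obtain ⟨e⟩ := Fintype.card_eq.1
    (show Fintype.card {x // x ∈ C} = Fintype.card {x // x ∈ C'} by simpa using hc)
  obtain ⟨u, hu, v, hv, huv⟩ := Finset.one_lt_card.1
    (show 1 < C'ᶜ.card by rw [Finset.card_compl]; omega)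
  have hswap : ∀ x, swap u v x ∈ C' ↔ x ∈ C' := by
    intro x
    rw [Finset.mem_compl] at hu hv
    rcases eq_or_ne x u with rfl | h1
    · simp [hu, hv]
    rcases eq_or_ne x v with rfl | h2
    · simp [hu, hv]
    rw [swap_apply_of_ne_of_ne h1 h2]
  have hext : ∀ x, e.extendSubtype x ∈ C' ↔ x ∈ C := fun x => by
    by_cases hx : x ∈ C
    · simpa [hx] using Equiv.extendSubtype_mem e x hx
    · simpa [hx] using Equiv.extendSubtype_not_mem e x hx
  obtain ⟨σ, hσA, hσ⟩ : ∃ σ ∈ alternatingGroup α, ∀ x, σ x ∈ C' ↔ x ∈ C := by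
    rcases Int.units_eq_one_or (Perm.sign e.extendSubtype) with h | h
    · exact ⟨_, Perm.mem_alternatingGroup.2 h, hext⟩
    · refine ⟨swap u v * e.extendSubtype, Perm.mem_alternatingGroup.2 ?_, fun x => ?_⟩
      · rw [map_mul, Perm.sign_swap huv, h]; decide
      · rw [Perm.mul_apply, hswap, hext]
  refine ⟨σ, hσA, ?_⟩
  ext g
  rw [Subgroup.mem_map_equiv]
  show g ∈ pairStab C' ↔ σ⁻¹ * g * σ ∈ pairStab C
  have key : ∀ x, (σ⁻¹ * g * σ) x ∈ C ↔ g (σ x) ∈ C' := fun x => by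
    rw [← hσ]
    simp [Perm.mul_apply]
  constructor
  · rintro (h | h)
    · exact Or.inl fun x => by rw [key, h, hσ]
    · exact Or.inr fun x => by rw [key, h, hσ]
  · rintro (h | h)
    · refine Or.inl fun x => ?_
      have := (key (σ⁻¹ x)).symm.trans (h (σ⁻¹ x))
      rw [← hσ] at this
      simpa using this
    · refine Or.inr fun x => ?_
      have := (key (σ⁻¹ x)).symm.trans (h (σ⁻¹ x))
      rw [← hσ] at this
      simpa using this

/-- Hall subgroups of `A_n` in the nontrivial case. -/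
theorem hall_alt_classify (hn : 5 ≤ Fintype.card α)
    (h2 : ∃ r s : ℕ, r.Prime ∧ s.Prime ∧ r ≠ s ∧ r ∈ π ∧ s ∈ π ∧
      r ≤ Fintype.card α ∧ s ≤ Fintype.card α)
    (hns : ∃ r : ℕ, r.Prime ∧ r ≤ Fintype.card α ∧ r ∉ π)
    {M : Subgroup (alternatingGroup α)} (hM : Cfsg.IsPiHall π M) :
    ∃ C : Finset α, Shape π C ∧ M = (pairStab C).subgroupOf (alternatingGroup α) ∧
      ∀ g : Perm α, (∀ m ∈ M.map (alternatingGroup α).subtype,
        g * m * g⁻¹ ∈ M.map (alternatingGroup α).subtype) → g ∈ pairStab C := by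
  have : Nontrivial α := Fintype.one_lt_card_iff_nontrivial.1 (by omega)
  set M' := M.map (alternatingGroup α).subtype with hM'
  have hcard : Nat.card M' = Nat.card M := Subgroup.card_map_of_injective Subtype.val_injective
  have hMA : M' ≤ alternatingGroup α := Subgroup.map_subtype_le M
  have hM2 := (isPiHall_iff.1 hM)
  obtain ⟨C, t, ht, hcases, hπ, hnorm⟩ := classify (π := π) hMA (fun p hp hd => hM.1 p hp (hcard ▸ hd))
    (fun p P hp hpπ hPA hP => by
      have : Fact p.Prime := ⟨hp⟩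
      obtain ⟨Q, hQ⟩ := (hP.of_equiv (Subgroup.subgroupOfEquivOfLe hPA).symm).exists_le_sylow
      obtain ⟨R⟩ : Nonempty (Sylow p M) := inferInstance
      let R' : Sylow p (alternatingGroup α) := Sylow.ofCard ((R : Subgroup M).map M.subtype) (by
        rw [Subgroup.card_map_of_injective Subtype.val_injective, R.card_eq_multiplicity]
        congr 1
        refine le_antisymm ((Nat.factorization_le_iff_dvd Nat.card_pos.ne' Nat.card_pos.ne').2
          (Subgroup.card_subgroup_dvd_card M) p) (hM2.2 p hp hpπ))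
      obtain ⟨g, hg⟩ := exists_smul_eq (alternatingGroup α) Q R'
      refine ⟨g, fun x hx => ?_⟩
      have hxQ : (⟨x, hPA hx⟩ : alternatingGroup α) ∈ (Q : Subgroup (alternatingGroup α)) :=
        hQ (Subgroup.mem_subgroupOf.2 hx)
      have hx' : g * ⟨x, hPA hx⟩ * g⁻¹ ∈ (R' : Subgroup (alternatingGroup α)) := by
        rw [← hg]
        exact ⟨_, hxQ, rfl⟩
      obtain ⟨r, -, hr⟩ := hx'
      exact ⟨r.1, r.2, congrArg Subtype.val hr⟩)
    (fun p hp hpπ => by
      rw [card_perm_alt, hcard, Nat.factorization_mul two_ne_zero Nat.card_pos.ne',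
        Nat.factorization_mul two_ne_zero Nat.card_pos.ne', Finsupp.add_apply, Finsupp.add_apply]
      exact Nat.add_le_add_left (hM2.2 p hp hpπ) _) h2 hns hn
  have htn : t ≤ Fintype.card α := by
    rcases hcases with ⟨h, -⟩ | ⟨h, h', -⟩ | ⟨h, h', -⟩ <;> omega
  have hshape : Shape π C := ⟨t, ht, by omega, htn, hcases, hπ⟩
  refine ⟨C, hshape, ?_, hnorm⟩
  refine eq_of_hall_le hM (fun m hm => Subgroup.mem_subgroupOf.2
    (hnorm m fun m' hm' => mul_mem (mul_mem ⟨m, hm, rfl⟩ hm') (inv_mem ⟨m, hm, rfl⟩))) ?_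
  intro p hp hd
  refine hshape.pairStab_pi p hp (hd.trans ?_)
  exact Subgroup.card_comap_dvd_of_injective _ (alternatingGroup α).subtype Subtype.val_injective

/-- Hall subgroups of `S_n` in the nontrivial case. -/
theorem hall_symm_classify (hn : 5 ≤ Fintype.card α)
    (h2 : ∃ r s : ℕ, r.Prime ∧ s.Prime ∧ r ≠ s ∧ r ∈ π ∧ s ∈ π ∧
      r ≤ Fintype.card α ∧ s ≤ Fintype.card α)
    (hns : ∃ r : ℕ, r.Prime ∧ r ≤ Fintype.card α ∧ r ∉ π)
    {H : Subgroup (Perm α)} (hH : Cfsg.IsPiHall π H) :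
    ∃ C : Finset α, Shape π C ∧ H = pairStab C := by
  obtain ⟨C, hC, -, hnorm⟩ := hall_alt_classify hn h2 hns (hall_inter_normal hH (alternatingGroup α))
  refine ⟨C, hC, eq_of_hall_le hH (fun h hh => hnorm h ?_) hC.pairStab_pi⟩
  rintro _ ⟨m, hm, rfl⟩
  refine ⟨⟨h * m * h⁻¹, ?_⟩, Subgroup.mem_subgroupOf.2 (mul_mem (mul_mem hh hm) (inv_mem hh)), rfl⟩
  rw [Perm.mem_alternatingGroup]
  simp [Perm.mem_alternatingGroup.1 m.2]

/-- The trichotomy. -/
theorem trichotomy (n : ℕ) (π : Set ℕ) :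
    (∀ r s : ℕ, r.Prime → s.Prime → r ∈ π → s ∈ π → r ≤ n → s ≤ n → r = s) ∨
      (∀ r : ℕ, r.Prime → r ≤ n → r ∈ π) ∨
      (5 ≤ n ∧ (∃ r s : ℕ, r.Prime ∧ s.Prime ∧ r ≠ s ∧ r ∈ π ∧ s ∈ π ∧ r ≤ n ∧ s ≤ n) ∧
        ∃ r : ℕ, r.Prime ∧ r ≤ n ∧ r ∉ π) := by
  by_cases h1 : ∃ r s : ℕ, r.Prime ∧ s.Prime ∧ r ≠ s ∧ r ∈ π ∧ s ∈ π ∧ r ≤ n ∧ s ≤ n
  · by_cases h2 : ∃ r : ℕ, r.Prime ∧ r ≤ n ∧ r ∉ π
    · refine Or.inr (Or.inr ⟨?_, h1, h2⟩)
      by_contra hn
      obtain ⟨r, s, hr, hs, hrs, hrπ, hsπ, hrn, hsn⟩ := h1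
      obtain ⟨t, ht, htn, htπ⟩ := h2
      have hsmall : ∀ x : ℕ, x.Prime → x ≤ n → x = 2 ∨ x = 3 := fun x hx hxn => by
        have := hx.two_le
        have : x ≠ 4 := fun e => by rw [e] at hx; norm_num at hx
        omega
      rcases hsmall r hr hrn with rfl | rfl <;> rcases hsmall s hs hsn with rfl | rfl <;>
        rcases hsmall t ht htn with rfl | rfl <;> contradiction
    · push Not at h2
      exact Or.inr (Or.inl h2)
  · push Not at h1
    exact Or.inl fun r s hr hs hrπ hsπ hrn hsn => by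
      by_contra h
      have := h1 r s hr hs h hrπ hsπ hrn
      omega

theorem le_of_dvd_card_perm {r : ℕ} (hr : r.Prime) (h : r ∣ Nat.card (Perm α)) :
    r ≤ Fintype.card α := by
  rw [← hr.dvd_factorial, ← Fintype.card_perm, ← Nat.card_eq_fintype_card]
  exact h

theorem le_of_dvd_card_alt {r : ℕ} (hr : r.Prime) (h : r ∣ Nat.card (alternatingGroup α)) :
    r ≤ Fintype.card α :=
  le_of_dvd_card_perm hr (h.trans (Subgroup.card_subgroup_dvd_card _))

/-- Every Hall subgroup of `A_n` is cut out by one of `S_n`. -/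
theorem exists_hall_symm {M : Subgroup (alternatingGroup α)} (hM : Cfsg.IsPiHall π M) :
    ∃ M₀ : Subgroup (Perm α), Cfsg.IsPiHall π M₀ ∧ M = M₀.subgroupOf (alternatingGroup α) := by
  rcases trichotomy (Fintype.card α) π with h | h | ⟨hn, h2, hns⟩
  · obtain ⟨-, -, hle⟩ := one_prime (G := Perm α) (π := π) fun r s hr hs hrπ hsπ hrd hsd =>
      h r s hr hs hrπ hsπ (le_of_dvd_card_perm hr hrd) (le_of_dvd_card_perm hs hsd)
    obtain ⟨H, hH, hMH⟩ := hle (M.map (alternatingGroup α).subtype) fun p hp hd =>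
      hM.1 p hp (by rwa [Subgroup.card_map_of_injective Subtype.val_injective] at hd)
    exact ⟨H, hH, eq_of_hall_le hM (fun m hm => Subgroup.mem_subgroupOf.2 (hMH ⟨m, hm, rfl⟩))
      (hall_inter_normal hH _).1⟩
  · obtain ⟨htop, -⟩ := all_primes (G := Perm α) (π := π) fun r hr hd =>
      h r hr (le_of_dvd_card_perm hr hd)
    exact ⟨⊤, htop, eq_of_hall_le hM (by simp) (hall_inter_normal htop _).1⟩
  · obtain ⟨C, hC, hMC, -⟩ := hall_alt_classify hn h2 hns hM
    exact ⟨_, hC.isPiHall, hMC⟩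

theorem cPi_symm (h : Cfsg.IsEPiGroup π (Perm α)) : Cfsg.IsCPiGroup π (Perm α) := by
  rcases trichotomy (Fintype.card α) π with h1 | h1 | ⟨hn, h2, hns⟩
  · exact (one_prime fun r s hr hs hrπ hsπ hrd hsd =>
      h1 r s hr hs hrπ hsπ (le_of_dvd_card_perm hr hrd) (le_of_dvd_card_perm hs hsd)).1
  · exact (all_primes fun r hr hd => h1 r hr (le_of_dvd_card_perm hr hd)).2.2.1
  · refine ⟨h, fun H K hH hK => ?_⟩
    obtain ⟨C, hC, rfl⟩ := hall_symm_classify hn h2 hns hH
    obtain ⟨C', hC', rfl⟩ := hall_symm_classify hn h2 hns hK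
    obtain ⟨σ, -, hσ⟩ := exists_even_conj (hC.card_eq hC') (by
      obtain ⟨t, -, ht5, -, hc, -⟩ := hC; omega)
    exact ⟨σ, hσ⟩

theorem cPi_alt (h : Cfsg.IsEPiGroup π (alternatingGroup α)) :
    Cfsg.IsCPiGroup π (alternatingGroup α) := by
  rcases trichotomy (Fintype.card α) π with h1 | h1 | ⟨hn, h2, hns⟩
  · exact (one_prime fun r s hr hs hrπ hsπ hrd hsd =>
      h1 r s hr hs hrπ hsπ (le_of_dvd_card_alt hr hrd) (le_of_dvd_card_alt hs hsd)).1
  · exact (all_primes fun r hr hd => h1 r hr (le_of_dvd_card_alt hr hd)).2.2.1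
  · refine ⟨h, fun H K hH hK => ?_⟩
    obtain ⟨C, hC, rfl, -⟩ := hall_alt_classify hn h2 hns hH
    obtain ⟨C', hC', rfl, -⟩ := hall_alt_classify hn h2 hns hK
    obtain ⟨σ, hσA, hσ⟩ := exists_even_conj (hC.card_eq hC') (by
      obtain ⟨t, -, ht5, -, hc, -⟩ := hC; omega)
    refine ⟨⟨σ, hσA⟩, ?_⟩
    ext g
    rw [Subgroup.mem_subgroupOf, hσ, Subgroup.mem_map_equiv, Subgroup.mem_map_equiv]
    exact Iff.rfl

end CfsgLib.AltHall
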