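import Cfsg.Agent.Lib.AltHall.Main
import Cfsg.Agent.Lib.PSL2Sub.Minimal
import Cfsg.Agent.Lib.PSL2Sub.Existence
import Cfsg.Agent.Lib.PSL2Sub.Maximal
import Cfsg.Agent.Lib.PSL2Sub.PSL
import Cfsg.Agent.Lib.Solvable.Hall

/-!
Hall `{2,3}`-subgroups of `PSL₂(q)`, `q` prime to 6.
-/

set_option autoImplicit false

namespace CfsgLib.AltHall

open CfsgLib.PSL2Sub

/-- The `{2,3}`-part of a natural number. -/
theorem eq_two_three_part {m : ℕ} (hm : m ≠ 0) (h : ∀ r : ℕ, r.Prime → r ∣ m → r = 2 ∨ r = 3) :
    m = 2 ^ m.factorization 2 * 3 ^ m.factorization 3 := by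
  refine Nat.eq_of_factorization_eq hm (by positivity) fun r => ?_
  rw [Nat.factorization_mul (by positivity) (by positivity), Nat.factorization_pow,
    Nat.factorization_pow, Nat.prime_two.factorization, Nat.prime_three.factorization]
  simp only [Finsupp.coe_add, Finsupp.coe_smul, Pi.add_apply, Pi.smul_apply, smul_eq_mul]
  by_cases h2 : r = 2
  · subst h2; simp
  by_cases h3 : r = 3
  · subst h3; simp
  rw [Finsupp.single_eq_of_ne h2, Finsupp.single_eq_of_ne h3]
  simp only [mul_zero, add_zero]
  by_cases hr : r.Prime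
  · exact Nat.factorization_eq_zero_of_not_dvd fun hd => by
      rcases h r hr hd with h' | h' <;> contradiction
  · exact Nat.factorization_eq_zero_of_not_prime m hr

theorem factorization_of_part {a b A B : ℕ} (h : 2 ^ a * 3 ^ b = 2 ^ A * 3 ^ B) :
    a = A ∧ b = B := by
  have h2 := congrArg (fun m => m.factorization 2) h
  have h3 := congrArg (fun m => m.factorization 3) h
  simp [Nat.factorization_mul, Nat.prime_two.factorization,
    Nat.prime_three.factorization, Finsupp.single_eq_of_ne] at h2 h3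
  exact ⟨h2, h3⟩

variable {F : Type*} [Field F] [Fintype F] (p : ℕ) [hp : Fact p.Prime] [CharP F p]

theorem hall_two_three_iff (hp5 : 5 ≤ p) :
    (∃ H : Subgroup (PS F), Cfsg.IsPiHall ({2, 3} : Set ℕ) H) ↔
      (3 ∣ Fintype.card F - 1 ∧ Fintype.card F % 4 = 1) ∨
      (3 ∣ Fintype.card F + 1 ∧ Fintype.card F % 4 = 3) ∨
        2 ^ (Fintype.card F ^ 2 - 1).factorization 2 *
          3 ^ (Fintype.card F ^ 2 - 1).factorization 3 = 24 ∨
        2 ^ (Fintype.card F ^ 2 - 1).factorization 2 *
          3 ^ (Fintype.card F ^ 2 - 1).factorization 3 = 48 := by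
  classical
  obtain ⟨n, -, hn⟩ := FiniteField.card F p
  set q := Fintype.card F with hq
  have hqodd : q % 2 = 1 :=
    Nat.odd_iff.1 (hn ▸ (hp.out.odd_of_ne_two (by omega)).pow)
  have h3q : q % 3 ≠ 0 := fun h => by
    have h3 : 3 ∣ p ^ (n : ℕ) := hn ▸ Nat.dvd_of_mod_eq_zero h
    have := (Nat.prime_dvd_prime_iff_eq Nat.prime_three hp.out).1
      (Nat.prime_three.dvd_of_dvd_pow h3)
    omega
  have hq5 : 5 ≤ q := hn ▸ hp5.trans (Nat.le_self_pow n.pos.ne' p)
  have hgcd : Nat.gcd 2 (q - 1) = 2 := by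
    rcases gcd_two_sub q with h | h
    · exact h.2
    · omega
  have hG : 2 * Nat.card (PS F) = q * (q ^ 2 - 1) := by
    have h := gcd_mul_card_PS (F := F)
    rw [← hq, hgcd] at h
    exact h
  have hsq : q ^ 2 - 1 = (q + 1) * (q - 1) := by
    rw [← Nat.sq_sub_sq q 1, one_pow]
  set a := (q ^ 2 - 1).factorization 2 with ha
  set b := (q ^ 2 - 1).factorization 3 with hb
  have hsq0 : q ^ 2 - 1 ≠ 0 := by
    rw [hsq]
    exact Nat.mul_ne_zero (by omega) (by omega)
  have hfac : ∀ r : ℕ, r.Prime → r = 2 ∨ r = 3 →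
      (2 : ℕ).factorization r + (Nat.card (PS F)).factorization r = (q ^ 2 - 1).factorization r := by
    intro r hr h23
    have h := congrArg (fun m => m.factorization r) hG
    simp only [Nat.factorization_mul two_ne_zero Nat.card_pos.ne', Finsupp.coe_add, Pi.add_apply,
      Nat.factorization_mul (show q ≠ 0 by omega) hsq0] at h
    have hqr : q.factorization r = 0 := by
      refine Nat.factorization_eq_zero_of_not_dvd fun hd => ?_
      rcases h23 with rfl | rfl <;> omega
    omega
  have hG2 : (Nat.card (PS F)).factorization 2 + 1 = a := by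
    have := hfac 2 Nat.prime_two (Or.inl rfl)
    rw [Nat.prime_two.factorization, Finsupp.single_eq_same] at this
    omega
  have hG3 : (Nat.card (PS F)).factorization 3 = b := by
    have := hfac 3 Nat.prime_three (Or.inr rfl)
    rw [Nat.prime_two.factorization, Finsupp.single_eq_of_ne (by norm_num)] at this
    omega
  have hπ : ∀ r : ℕ, r ∈ ({2, 3} : Set ℕ) ↔ r = 2 ∨ r = 3 := fun r => by simp
  have hmk : ∀ H : Subgroup (PS F), (∀ r : ℕ, r.Prime → r ∣ Nat.card H → r = 2 ∨ r = 3) →
      a ≤ (Nat.card H).factorization 2 + 1 → b ≤ (Nat.card H).factorization 3 →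
      Cfsg.IsPiHall ({2, 3} : Set ℕ) H := by
    intro H h h2 h3
    rw [isPiHall_iff]
    refine ⟨fun r hr hd => (hπ r).2 (h r hr hd), fun r hr hrπ => ?_⟩
    rcases (hπ r).1 hrπ with rfl | rfl <;> omega
  -- a subgroup of order dividing a number with the full `{2,3}`-part
  have hsolv : ∀ (k : ℕ) (D : Subgroup (PS F)), 2 ∣ k * 2 → Nonempty (D ≃* DihedralGroup k) →
      a ≤ (2 * k).factorization 2 + 1 → b ≤ (2 * k).factorization 3 →
      ∃ H : Subgroup (PS F), Cfsg.IsPiHall ({2, 3} : Set ℕ) H := by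
    intro k D _ ⟨e⟩ h2 h3
    have : Group.IsSolvable (DihedralGroup k) := isSolvable_dihedral k
    have : Group.IsSolvable D :=
      Group.isSolvable_of_isSolvable_injective (f := e.toMonoidHom) e.injective
    obtain ⟨H, hH⟩ := CfsgLib.Solvable.exists_isPiHall (G := D) ({2, 3} : Set ℕ)
    have hD : Nat.card D = 2 * k := (Nat.card_congr e.toEquiv).trans DihedralGroup.nat_card
    rw [isPiHall_iff, hD] at hH
    refine ⟨H.map D.subtype, hmk _ ?_ ?_ ?_⟩
    all_goals rw [Subgroup.card_map_of_injective D.subtype_injective]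
    · exact fun r hr hd => (hπ r).1 (hH.1 r hr hd)
    · exact h2.trans (Nat.add_le_add_right (hH.2 2 Nat.prime_two (by simp)) 1)
    · exact h3.trans (hH.2 3 Nat.prime_three (by simp))
  have hm : q - 1 ≠ 0 := by omega
  have hp1 : q + 1 ≠ 0 := by omega
  have hab : a = (q + 1).factorization 2 + (q - 1).factorization 2 ∧
      b = (q + 1).factorization 3 + (q - 1).factorization 3 := by
    rw [ha, hb, hsq, Nat.factorization_mul hp1 hm]
    exact ⟨rfl, rfl⟩
  have hone : ∀ m : ℕ, m % 4 = 2 → m.factorization 2 = 1 := fun m h => by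
    refine le_antisymm ?_ ((Nat.prime_two.dvd_iff_one_le_factorization (by omega)).1 (by omega))
    by_contra hc
    have : 2 ^ 2 ∣ m := (Nat.prime_two.pow_dvd_iff_le_factorization (by omega)).2 (by omega)
    omega
  constructor
  · rintro ⟨H, hH⟩
    have h23 : ∀ r : ℕ, r.Prime → r ∣ Nat.card H → r = 2 ∨ r = 3 := fun r hr hd =>
      (hπ r).1 (hH.1 r hr hd)
    have hH2 := (isPiHall_iff.1 hH).2 2 Nat.prime_two (by simp)
    have hH3 := (isPiHall_iff.1 hH).2 3 Nat.prime_three (by simp)
    have hpH : ¬ p ∣ Nat.card H := fun hd => by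
      rcases h23 p hp.out hd with h | h <;> omega
    have hle2 := (Nat.factorization_le_iff_dvd Nat.card_pos.ne' Nat.card_pos.ne').2
      (Subgroup.card_subgroup_dvd_card H)
    have htorus : ∀ k : ℕ, DvdTorus q k → Nat.card H ∣ 2 * k →
        (3 ∣ q - 1 ∧ q % 4 = 1) ∨ (3 ∣ q + 1 ∧ q % 4 = 3) := by
      intro k hk hd
      rw [DvdTorus, hgcd] at hk
      have hb1 : 1 ≤ b := by
        rw [hb, ← Nat.prime_three.dvd_iff_one_le_factorization hsq0, hsq, Nat.prime_three.dvd_mul]
        rcases (show q % 3 = 1 ∨ q % 3 = 2 by omega) with h | h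
        · exact Or.inr (by omega)
        · exact Or.inl (by omega)
      rcases hk with hk | hk
      · have hd' : Nat.card H ∣ q + 1 := hd.trans ((mul_dvd_mul_left 2 hk).trans
          (dvd_of_eq (Nat.mul_div_cancel' (by omega))))
        have hf := (Nat.factorization_le_iff_dvd Nat.card_pos.ne' hp1).2 hd'
        have := hf 2
        have := hf 3
        refine Or.inr ⟨(Nat.prime_three.dvd_iff_one_le_factorization hp1).2 (by omega), ?_⟩
        by_contra h
        have h4 : 2 ≤ (q - 1).factorization 2 :=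
          (Nat.prime_two.pow_dvd_iff_le_factorization hm).1 (show 2 ^ 2 ∣ q - 1 by norm_num; omega)
        omega
      · have hd' : Nat.card H ∣ q - 1 := hd.trans ((mul_dvd_mul_left 2 hk).trans
          (dvd_of_eq (Nat.mul_div_cancel' (by omega))))
        have hf := (Nat.factorization_le_iff_dvd Nat.card_pos.ne' hm).2 hd'
        have := hf 2
        have := hf 3
        refine Or.inl ⟨(Nat.prime_three.dvd_iff_one_le_factorization hm).2 (by omega), ?_⟩
        by_contra h
        have h4 : 2 ≤ (q + 1).factorization 2 :=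
          (Nat.prime_two.pow_dvd_iff_le_factorization hp1).1 (show 2 ^ 2 ∣ q + 1 by norm_num; omega)
        omega
    have hpoly : Nat.card H = 12 ∨ Nat.card H = 24 →
        2 ^ a * 3 ^ b = 24 ∨ 2 ^ a * 3 ^ b = 48 := by
      intro h
      have hm' := eq_two_three_part Nat.card_pos.ne' h23
      have e2 : a = (Nat.card H).factorization 2 + 1 := by have := hle2 2; omega
      have e3 : b = (Nat.card H).factorization 3 := by have := hle2 3; omega
      rw [e2, e3, pow_succ, mul_right_comm, ← hm']
      omega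
    rcases classify_psl p H with h | ⟨k, -, -, hk, ⟨e⟩⟩ | h | h | h | h | ⟨E, hE⟩
    · rcases htorus _ h.2.2 (dvd_mul_left _ 2) with h' | h'
      exacts [Or.inl h', Or.inr (Or.inl h')]
    · rcases htorus k hk (dvd_of_eq ((Nat.card_congr e.toEquiv).trans DihedralGroup.nat_card))
        with h' | h'
      exacts [Or.inl h', Or.inr (Or.inl h')]
    · exact absurd h.1 hpH
    · exact Or.inr (Or.inr (hpoly (Or.inl (h.2.elim fun e =>
        (Nat.card_congr e.toEquiv).trans card_alt_four))))
    · exact Or.inr (Or.inr (hpoly (Or.inr (h.2.elim fun e =>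
        (Nat.card_congr e.toEquiv).trans card_sym_four))))
    · have h5 := h23 5 Nat.prime_five (by
        rw [h.2.elim fun e => (Nat.card_congr e.toEquiv).trans card_alt_five]; norm_num)
      norm_num at h5
    · exfalso
      letI := Fintype.ofFinite E
      obtain ⟨k, -, hk⟩ := FiniteField.card E p
      have hpE : p ∣ Fintype.card E := hk ▸ dvd_pow_self p k.pos.ne'
      rcases hE with ⟨⟨e⟩⟩ | ⟨-, ⟨e⟩⟩
      · refine hpH ?_
        rw [Nat.card_congr e.toEquiv, Linear.card_PGL, Linear.card_SL_two]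
        exact hpE.mul_right _
      · refine hpH ?_
        rw [Nat.card_congr e.toEquiv]
        have h := gcd_mul_card_PS (F := E)
        have hd : p ∣ Nat.gcd 2 (Fintype.card E - 1) * Nat.card (PS E) := h ▸ hpE.mul_right _
        refine (hp.out.dvd_mul.1 hd).resolve_left fun h' => ?_
        have := Nat.le_of_dvd two_pos (h'.trans (Nat.gcd_dvd_left _ _))
        omega
  · rintro (⟨h3, h4⟩ | ⟨h3, h4⟩ | h | h)
    · obtain ⟨D, -, hD⟩ := exists_maximal_dihedral_minus (F := F) (by
        simp only [Finset.mem_insert, Finset.mem_singleton, ← hq]; omega)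
      rw [← hq, hgcd] at hD
      refine hsolv _ D (dvd_mul_left 2 _) hD ?_ ?_ <;>
        rw [Nat.mul_div_cancel' (show 2 ∣ q - 1 by omega)]
      · have := hone (q + 1) (by omega)
        omega
      · have : (q + 1).factorization 3 = 0 :=
          Nat.factorization_eq_zero_of_not_dvd (by omega)
        omega
    · obtain ⟨D, -, hD⟩ := exists_maximal_dihedral_plus (F := F) (by
        simp only [Finset.mem_insert, Finset.mem_singleton, ← hq]; omega)
      rw [← hq, hgcd] at hD
      refine hsolv _ D (dvd_mul_left 2 _) hD ?_ ?_ <;>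
        rw [Nat.mul_div_cancel' (show 2 ∣ q + 1 by omega)]
      · have := hone (q - 1) (by omega)
        omega
      · have : (q - 1).factorization 3 = 0 :=
          Nat.factorization_eq_zero_of_not_dvd (by omega)
        omega
    · obtain ⟨H, ⟨e⟩⟩ := exists_alt_four (F := F) (two_ne_zero_of_card_odd hqodd)
      have h12 : Nat.card H = 2 ^ 2 * 3 ^ 1 := (Nat.card_congr e.toEquiv).trans card_alt_four
      obtain ⟨ea, eb⟩ := factorization_of_part (h.trans (show 24 = 2 ^ 3 * 3 ^ 1 by norm_num))
      refine ⟨H, hmk H (fun r hr hd => ?_) ?_ ?_⟩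
      · rw [h12] at hd
        exact (hr.dvd_mul.1 hd).imp
          (fun h => (Nat.prime_dvd_prime_iff_eq hr Nat.prime_two).1 (hr.dvd_of_dvd_pow h))
          (fun h => (Nat.prime_dvd_prime_iff_eq hr Nat.prime_three).1 (hr.dvd_of_dvd_pow h))
      all_goals
        have := factorization_of_part ((eq_two_three_part Nat.card_pos.ne' (fun r hr hd => by
          rw [h12] at hd
          exact (hr.dvd_mul.1 hd).imp
            (fun h => (Nat.prime_dvd_prime_iff_eq hr Nat.prime_two).1 (hr.dvd_of_dvd_pow h))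
            (fun h => (Nat.prime_dvd_prime_iff_eq hr Nat.prime_three).1 (hr.dvd_of_dvd_pow h)))).symm.trans h12)
        omega
    · obtain ⟨ea, eb⟩ := factorization_of_part (h.trans (show 48 = 2 ^ 4 * 3 ^ 1 by norm_num))
      obtain ⟨H, ⟨e⟩⟩ := (sym_four_iff (F := F)).2 (by
        have : 2 ^ 4 ∣ q ^ 2 - 1 := (Nat.prime_two.pow_dvd_iff_le_factorization hsq0).2 (by omega)
        norm_num at this
        have h1 : 1 ≤ q ^ 2 := Nat.one_le_pow _ _ (by omega)
        rw [← hq]
        omega)
      have h24 : Nat.card H = 2 ^ 3 * 3 ^ 1 := (Nat.card_congr e.toEquiv).trans card_sym_four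
      have hpr : ∀ r : ℕ, r.Prime → r ∣ Nat.card H → r = 2 ∨ r = 3 := fun r hr hd => by
        rw [h24] at hd
        exact (hr.dvd_mul.1 hd).imp
          (fun h => (Nat.prime_dvd_prime_iff_eq hr Nat.prime_two).1 (hr.dvd_of_dvd_pow h))
          (fun h => (Nat.prime_dvd_prime_iff_eq hr Nat.prime_three).1 (hr.dvd_of_dvd_pow h))
      have := factorization_of_part ((eq_two_three_part Nat.card_pos.ne' hpr).symm.trans h24)
      exact ⟨H, hmk H hpr (by omega) (by omega)⟩

end CfsgLib.AltHall
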