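import Cfsg.Agent.Lib.Alt.Aut
import Mathlib.GroupTheory.Perm.DomMulAct
import Mathlib.GroupTheory.GroupAction.Jordan
import Mathlib.GroupTheory.SpecificGroups.Alternating.Simple
import Mathlib.GroupTheory.GroupAction.Quotient

/-!
Stabilisers of uniform partitions are maximal in symmetric and alternating groups.
-/

set_option autoImplicit false

open Equiv Equiv.Perm MulAction
open scoped Pointwise

namespace CfsgLib.AltHall

/-- A simple group embeds in the symmetric group on the cosets of a proper subgroup. -/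
theorem card_dvd_index_factorial {G : Type*} [Group G] [Finite G] [IsSimpleGroup G] {H : Subgroup G}
    (hH : H ≠ ⊤) : Nat.card G ∣ H.index.factorial := by
  have hker : (MulAction.toPermHom G (G ⧸ H)).ker = ⊥ := by
    refine (IsSimpleGroup.eq_bot_or_eq_top_of_normal _ inferInstance).resolve_right fun h => hH ?_
    rw [← Subgroup.normalCore_eq_ker] at h
    exact top_le_iff.1 (h ▸ Subgroup.normalCore_le H)
  have := Subgroup.card_dvd_of_injective _ ((MonoidHom.ker_eq_bot_iff _).1 hker)
  rwa [Nat.card_perm] at this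

variable {Ω : Type*} [Fintype Ω] [DecidableEq Ω] {a b : ℕ} (f : Ω → Fin b)

/-- The stabiliser of the partition into the fibres of `f`. -/
def partStab : Subgroup (Perm Ω) where
  carrier := {g | ∀ x y : Ω, f x = f y ↔ f (g x) = f (g y)}
  one_mem' := fun _ _ => Iff.rfl
  mul_mem' := fun {g h} hg hh x y => (hh x y).trans (hg (h x) (h y))
  inv_mem' := fun {g} hg x y => by simpa using (hg (g⁻¹ x) (g⁻¹ y)).symm

theorem closure_partStab :
    Subgroup.closure {g : Perm Ω | ∀ x y : Ω, f x = f y ↔ f (g x) = f (g y)} = partStab f :=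
  Subgroup.closure_eq (partStab f)

theorem swap_mem_partStab {u v : Ω} (h : f u = f v) : swap u v ∈ partStab f := by
  have key : ∀ z, f (swap u v z) = f z := fun z => by
    rw [swap_apply_def]
    split_ifs with h1 h2
    · rw [h1, h]
    · rw [h2, h]
    · rfl
  intro x y
  rw [key, key]

variable {f}

theorem exists_fiber_avoid (hf : ∀ i : Fin b, Nat.card {x : Ω // f x = i} = a) (i : Fin b)
    (s : Finset Ω) (hs : s.card < a) : ∃ x, f x = i ∧ x ∉ s := by
  obtain ⟨x, hx, hxs⟩ := Finset.exists_mem_notMem_of_card_lt_card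
    (s := s) (t := Finset.univ.filter fun x => f x = i) (by
      rwa [← Fintype.card_subtype, ← Nat.card_eq_fintype_card, hf])
  exact ⟨x, (Finset.mem_filter.1 hx).2, hxs⟩

theorem exists_coord (hf : ∀ i : Fin b, Nat.card {x : Ω // f x = i} = a) :
    ∃ e : Ω ≃ Fin b × Fin a, ∀ x, (e x).1 = f x := by
  classical
  have h : ∀ i, Nonempty ({x : Ω // f x = i} ≃ Fin a) := fun i =>
    ⟨Finite.equivFinOfCardEq (hf i)⟩
  exact ⟨((Equiv.sigmaFiberEquiv f).symm.trans (Equiv.sigmaCongrRight fun i => (h i).some)).trans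
    (Equiv.sigmaEquivProd (Fin b) (Fin a)), fun x => rfl⟩

theorem exists_blockPerm (hf : ∀ i : Fin b, Nat.card {x : Ω // f x = i} = a) (π : Perm (Fin b)) :
    ∃ g ∈ partStab f, (∀ x, f (g x) = π (f x)) ∧ ∀ x, π (f x) = f x → g x = x := by
  obtain ⟨e, he⟩ := exists_coord hf
  refine ⟨(e.trans (Equiv.prodCongr π (Equiv.refl _))).trans e.symm, ?_, ?_, ?_⟩
  · intro x y
    simp only [Equiv.trans_apply, ← he, Equiv.apply_symm_apply]
    exact (π.injective.eq_iff).symm
  · intro x
    simp only [Equiv.trans_apply, ← he, Equiv.apply_symm_apply]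
    rfl
  · intro x hx
    simp only [Equiv.trans_apply]
    rw [Equiv.symm_apply_eq]
    exact Prod.ext (by rw [← he] at hx; exact hx) rfl

/-- Exchange two blocks by an even permutation fixing the other blocks pointwise. -/
theorem exists_even_exchange (hf : ∀ i : Fin b, Nat.card {x : Ω // f x = i} = a) (ha : 2 ≤ a)
    (i k : Fin b) :
    ∃ g ∈ partStab f ⊓ alternatingGroup Ω, (∀ x, f (g x) = swap i k (f x)) ∧
      ∀ x, f x ≠ i → f x ≠ k → g x = x := by
  obtain ⟨g, hg, hgf, hgfix⟩ := exists_blockPerm hf (swap i k)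
  rcases Int.units_eq_one_or (Perm.sign g) with hs | hs
  · exact ⟨g, ⟨hg, Perm.mem_alternatingGroup.2 hs⟩, hgf,
      fun x h1 h2 => hgfix x (swap_apply_of_ne_of_ne h1 h2)⟩
  obtain ⟨u, hu, -⟩ := exists_fiber_avoid hf k ∅ (by simp; omega)
  obtain ⟨v, hv, hvu⟩ := exists_fiber_avoid hf k {u} (by simp; omega)
  have huv : u ≠ v := fun h => hvu (by simp [h])
  refine ⟨swap u v * g, ⟨mul_mem (swap_mem_partStab f (hu.trans hv.symm)) hg,
    Perm.mem_alternatingGroup.2 (by rw [map_mul, Perm.sign_swap huv, hs]; decide)⟩,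
    fun x => ?_, fun x h1 h2 => ?_⟩
  · rw [Perm.mul_apply, ← hgf x, swap_apply_def]
    split_ifs with e1 e2
    · rw [e1, hu, hv]
    · rw [e2, hu, hv]
    · rfl
  · rw [Perm.mul_apply, hgfix x (swap_apply_of_ne_of_ne h1 h2),
      swap_apply_of_ne_of_ne (fun h => h2 (by rw [h, hu])) (fun h => h2 (by rw [h, hv]))]

/-- An even move within a block fixing a point outside it. -/
theorem exists_even_move (hf : ∀ i : Fin b, Nat.card {x : Ω // f x = i} = a) (ha : 2 ≤ a)
    (hab : 3 ≤ a ∨ 3 ≤ b) {x z w : Ω} (hxz : f z = f x) (hne : z ≠ x) (hw : f w ≠ f x) :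
    ∃ g ∈ partStab f ⊓ alternatingGroup Ω, g x = z ∧ g w = w := by
  have hwx : w ≠ x := fun h => hw (by rw [h])
  have hwz : w ≠ z := fun h => hw (by rw [h, hxz])
  by_cases h3 : 3 ≤ a
  · obtain ⟨t, ht, htxz⟩ := exists_fiber_avoid hf (f x) {x, z}
      (lt_of_le_of_lt Finset.card_le_two (by omega))
    simp only [Finset.mem_insert, Finset.mem_singleton, not_or] at htxz
    refine ⟨CfsgLib.AltAut.cyc x z t, ⟨mul_mem (swap_mem_partStab f hxz.symm)
      (swap_mem_partStab f (hxz.trans ht.symm)), ?_⟩,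
      CfsgLib.AltAut.cyc_apply_fst hne.symm (Ne.symm htxz.1),
      CfsgLib.AltAut.cyc_apply_other hwx hwz (fun h => hw (by rw [h, ht]))⟩
    exact (CfsgLib.AltAut.cyc_isThreeCycle hne.symm (Ne.symm htxz.1)
      (Ne.symm htxz.2)).mem_alternatingGroup
  · obtain ⟨j, -, hj⟩ := Finset.exists_mem_notMem_of_card_lt_card (s := ({f x, f w} : Finset (Fin b)))
      (t := Finset.univ) (lt_of_le_of_lt Finset.card_le_two (by rw [Finset.card_univ, Fintype.card_fin]; omega))
    simp only [Finset.mem_insert, Finset.mem_singleton, not_or] at hj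
    obtain ⟨u, hu, -⟩ := exists_fiber_avoid hf j ∅ (by simp; omega)
    obtain ⟨v, hv, hvu⟩ := exists_fiber_avoid hf j {u} (by simp; omega)
    have huv : u ≠ v := fun h => hvu (by simp [h])
    refine ⟨swap x z * swap u v, ⟨mul_mem (swap_mem_partStab f hxz.symm)
      (swap_mem_partStab f (hu.trans hv.symm)), Perm.mem_alternatingGroup.2 ?_⟩, ?_, ?_⟩
    · rw [map_mul, Perm.sign_swap hne.symm, Perm.sign_swap huv]; decide
    · rw [Perm.mul_apply, swap_apply_of_ne_of_ne (show x ≠ u from fun e => hj.1 (by rw [← hu, ← e]))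
        (show x ≠ v from fun e => hj.1 (by rw [← hv, ← e])), swap_apply_left]
    · rw [Perm.mul_apply, swap_apply_of_ne_of_ne (show w ≠ u from fun e => hj.2 (by rw [← hu, ← e]))
        (show w ≠ v from fun e => hj.2 (by rw [← hv, ← e])), swap_apply_of_ne_of_ne hwx hwz]

/-- A group containing the even part of the partition stabiliser is primitive or preserves the
partition. -/
theorem preprimitive_of_partStab_le (hf : ∀ i : Fin b, Nat.card {x : Ω // f x = i} = a)
    (ha : 2 ≤ a) (hb : 2 ≤ b) (hab : 3 ≤ a ∨ 3 ≤ b) {K : Subgroup (Perm Ω)}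
    (hle : partStab f ⊓ alternatingGroup Ω ≤ K) (hK : ¬ K ≤ partStab f) :
    IsPreprimitive K Ω := by
  classical
  have hother : ∀ i : Fin b, ∃ w, f w ≠ i := fun i => by
    obtain ⟨j, -, hj⟩ := Finset.exists_mem_notMem_of_card_lt_card (s := ({i} : Finset (Fin b)))
      (t := Finset.univ) (by rw [Finset.card_singleton, Finset.card_univ, Fintype.card_fin]; omega)
    obtain ⟨w, hw, -⟩ := exists_fiber_avoid hf j ∅ (by simp; omega)
    exact ⟨w, by rw [hw]; simpa using hj⟩
  -- transitivity, with elements respecting the partition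
  have hmove : ∀ x y, ∃ g ∈ partStab f ⊓ alternatingGroup Ω, g x = y := by
    intro x y
    obtain ⟨g, hg, hgf, -⟩ := exists_even_exchange hf ha (f x) (f y)
    by_cases h : g x = y
    · exact ⟨g, hg, h⟩
    obtain ⟨w, hw⟩ := hother (f (g x))
    obtain ⟨h', hh', hgx, -⟩ := exists_even_move hf ha hab (x := g x) (z := y) (w := w)
      (by rw [hgf, swap_apply_left]) (Ne.symm h) hw
    exact ⟨h' * g, mul_mem hh' hg, by rw [Perm.mul_apply, hgx]⟩
  have : IsPretransitive K Ω := ⟨fun x y => by
    obtain ⟨g, hg, hgxy⟩ := hmove x y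
    exact ⟨⟨g, hle hg⟩, hgxy⟩⟩
  have hclaim : ∀ (D : Set Ω), IsBlock K D → ∀ x ∈ D, ∀ y ∈ D, y ≠ x →
      D = {z | f z = f x} ∨ D = Set.univ := by
    intro D hD x hx y hy hyx
    have hinv : ∀ g ∈ partStab f ⊓ alternatingGroup Ω, ∀ u ∈ D, g u ∈ D → ∀ v ∈ D, g v ∈ D := by
      intro g hg u hu hgu v hv
      have heq : (⟨g, hle hg⟩ : K) • D = D :=
        hD.smul_eq_of_mem (g := (⟨g, hle hg⟩ : K)) hu hgu
      rw [← heq]
      exact Set.smul_mem_smul_set hv
    -- two points of `D` in distinct blocks fill both blocks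
    have hcross : ∀ u ∈ D, ∀ w ∈ D, f w ≠ f u → ∀ z, f z = f u → z ∈ D := by
      intro u hu w hw hwu z hz
      by_cases hzu : z = u
      · rwa [hzu]
      obtain ⟨g, hg, hgu, hgw⟩ := exists_even_move hf ha hab hz hzu hwu
      exact hgu ▸ hinv g hg w hw (by rwa [hgw]) u hu
    have hfib : ∀ z, f z = f x → z ∈ D := by
      intro z hz
      by_cases hyf : f y = f x
      · by_cases hzx : z = x
        · rwa [hzx]
        by_cases hzy : z = y
        · rwa [hzy]
        have hc := (CfsgLib.AltAut.cyc_isThreeCycle (Ne.symm hzx) (Ne.symm hyx) hzy).mem_alternatingGroup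
        have := hinv (CfsgLib.AltAut.cyc x z y) ⟨mul_mem (swap_mem_partStab f hz.symm)
          (swap_mem_partStab f (hz.trans hyf.symm)), hc⟩ y hy
          (by rw [CfsgLib.AltAut.cyc_apply_trd]; exact hx) x hx
        rwa [CfsgLib.AltAut.cyc_apply_fst (Ne.symm hzx) (Ne.symm hyx)] at this
      · exact hcross x hx y hy hyf z hz
    by_cases hall : ∀ w ∈ D, f w = f x
    · exact Or.inl (Set.ext fun z => ⟨fun h => hall z h, hfib z⟩)
    push Not at hall
    obtain ⟨w, hwD, hwx⟩ := hall
    refine Or.inr (Set.eq_univ_of_forall fun z => ?_)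
    by_cases hzx : f z = f x
    · exact hfib z hzx
    obtain ⟨g, hg, hgf, hgfix⟩ := exists_even_exchange hf ha (f w) (f z)
    have hgx : g x = x := hgfix x (Ne.symm hwx) (Ne.symm hzx)
    have hgw : g w ∈ D := hinv g hg x hx (by rwa [hgx]) w hwD
    have hfgw : f (g w) = f z := by rw [hgf, swap_apply_left]
    exact hcross (g w) hgw x hx (by rw [hfgw]; exact Ne.symm hzx) z hfgw.symm
  refine ⟨fun {D} hD => ?_⟩
  rcases D.subsingleton_or_nontrivial with h | h
  · exact Or.inl h
  refine Or.inr (by_contra fun hne => hK ?_)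
  obtain ⟨x₀, hx₀, y₀, hy₀, hxy⟩ := h
  have hD0 : D = {z | f z = f x₀} := (hclaim D hD x₀ hx₀ y₀ hy₀ hxy.symm).resolve_right hne
  have himage : ∀ g : K, g • D = {z | f z = f (g.1 x₀)} := by
    intro g
    refine (hclaim (g • D) (hD.translate g) (g.1 x₀) (Set.smul_mem_smul_set (a := g) hx₀) (g.1 y₀)
      (Set.smul_mem_smul_set (a := g) hy₀) (fun e => hxy (g.1.injective e).symm)).resolve_right
      fun h => hne ?_
    have := congrArg ((g⁻¹ : K) • ·) h
    simpa using this
  have hfor : ∀ g ∈ K, ∀ x y, f x = f y → f (g x) = f (g y) := by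
    intro g hg x y hxy'
    obtain ⟨h, hh, hhx⟩ := hmove x₀ x
    have hhD := himage ⟨h, hle hh⟩
    have hy : y ∈ (⟨h, hle hh⟩ : K) • D := by
      rw [hhD]; show f y = f (h x₀); rw [hhx, hxy']
    obtain ⟨u, hu, hhu⟩ := hy
    have hghD := himage ⟨g * h, mul_mem hg (hle hh)⟩
    have hmem : g y ∈ (⟨g * h, mul_mem hg (hle hh)⟩ : K) • D := ⟨u, hu, congrArg g hhu⟩
    rw [hghD] at hmem
    rw [← hhx]
    exact hmem.symm
  intro g hg x y
  refine ⟨hfor g hg x y, fun h => ?_⟩
  have := hfor g⁻¹ (inv_mem hg) _ _ h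
  simpa using this

theorem card_partStab (hf : ∀ i : Fin b, Nat.card {x : Ω // f x = i} = a) (ha : 1 ≤ a) :
    Nat.card (partStab f) = a.factorial ^ b * b.factorial := by
  classical
  have hsec : ∀ i, ∃ x, f x = i := fun i =>
    (exists_fiber_avoid hf i ∅ (by simp; omega)).imp fun _ h => h.1
  choose s hs using hsec
  let φ : partStab f →* Perm (Fin b) :=
    { toFun := fun g =>
        { toFun := fun i => f (g.1 (s i))
          invFun := fun i => f (g.1⁻¹ (s i))
          left_inv := fun i => by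
            have := ((g⁻¹).2 (s (f (g.1 (s i)))) (g.1 (s i))).1 (hs _)
            simp only [Subgroup.coe_inv, Perm.coe_inv, Equiv.symm_apply_apply, hs] at this
            simpa using this
          right_inv := fun i => by
            have := (g.2 (s (f (g.1⁻¹ (s i)))) (g.1⁻¹ (s i))).1 (hs _)
            simp only [Perm.coe_inv, Equiv.apply_symm_apply, hs] at this
            simpa using this }
      map_one' := by ext i; simp [hs]
      map_mul' := fun g h => by
        apply Equiv.ext
        intro i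
        simp only [Subgroup.coe_mul, Perm.mul_apply, Equiv.coe_fn_mk]
        exact (g.2 _ _).1 (hs _).symm }
  have hφ : ∀ (g : partStab f) (x : Ω), φ g (f x) = f (g.1 x) := fun g x => (g.2 _ _).1 (hs _)
  have hsurj : φ.range = ⊤ := by
    rw [eq_top_iff]
    intro π _
    obtain ⟨g, hg, hgf, -⟩ := exists_blockPerm hf π
    refine ⟨⟨g, hg⟩, Equiv.ext fun i => ?_⟩
    rw [← hs i, hφ, hgf, hs]
  have hker : Nat.card φ.ker = a.factorial ^ b := by
    have e : φ.ker ≃ {g : Perm Ω // f ∘ g = f} :=
      { toFun := fun g => ⟨g.1.1, funext fun x => (hφ g.1 x).symm.trans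
          (by rw [MonoidHom.mem_ker.1 g.2]; rfl)⟩
        invFun := fun g => ⟨⟨g.1, fun x y => by
            rw [show f (g.1 x) = f x from congrFun g.2 x, show f (g.1 y) = f y from congrFun g.2 y]⟩,
          MonoidHom.mem_ker.2 (Equiv.ext fun i => by
            rw [← hs i, hφ]; exact congrFun g.2 (s i))⟩
        left_inv := fun g => rfl
        right_inv := fun g => rfl }
    rw [Nat.card_congr e, Nat.card_eq_fintype_card, DomMulAct.stabilizer_card]
    rw [Finset.prod_congr rfl (g := fun _ => a.factorial) fun i _ => by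
        rw [← Nat.card_eq_fintype_card, hf], Finset.prod_const, Finset.card_univ, Fintype.card_fin]
  rw [← Subgroup.card_mul_index φ.ker, Subgroup.index_ker, hsurj, Subgroup.card_top, hker,
    Nat.card_perm, Nat.card_eq_fintype_card, Fintype.card_fin]

theorem two_mul_card_partStab_alt (hf : ∀ i : Fin b, Nat.card {x : Ω // f x = i} = a) (ha : 2 ≤ a)
    (hb : 1 ≤ b) :
    2 * Nat.card ↥(partStab f ⊓ alternatingGroup Ω) = Nat.card (partStab f) := by
  classical
  obtain ⟨u, hu, -⟩ := exists_fiber_avoid hf ⟨0, hb⟩ ∅ (by simp; omega)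
  obtain ⟨v, hv, hvu⟩ := exists_fiber_avoid hf ⟨0, hb⟩ {u} (by simp; omega)
  have huv : u ≠ v := fun h => hvu (by simp [h])
  let s : partStab f →* ℤˣ := Perm.sign.comp (partStab f).subtype
  have hs : s.range = ⊤ := by
    rw [eq_top_iff]
    intro x _
    rcases Int.units_eq_one_or x with rfl | rfl
    · exact one_mem _
    · exact ⟨⟨_, swap_mem_partStab f (hu.trans hv.symm)⟩, Perm.sign_swap huv⟩
  have hk : Nat.card s.ker = Nat.card ↥(partStab f ⊓ alternatingGroup Ω) :=
    Nat.card_congr
      { toFun := fun g => ⟨g.1.1, g.1.2, Perm.mem_alternatingGroup.2 g.2⟩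
        invFun := fun g => ⟨⟨g.1, g.2.1⟩, MonoidHom.mem_ker.2 (Perm.mem_alternatingGroup.1 g.2.2)⟩
        left_inv := fun g => rfl
        right_inv := fun g => rfl }
  rw [← Subgroup.card_mul_index s.ker, Subgroup.index_ker, hs, Subgroup.card_top, hk,
    Nat.card_eq_fintype_card (α := ℤˣ), Fintype.card_units_int, mul_comm]

theorem card_eq_mul (hf : ∀ i : Fin b, Nat.card {x : Ω // f x = i} = a) :
    Fintype.card Ω = b * a := by
  obtain ⟨e, -⟩ := exists_coord hf
  simpa using Fintype.card_congr e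

theorem partStab_ne_top (hf : ∀ i : Fin b, Nat.card {x : Ω // f x = i} = a) (ha : 2 ≤ a)
    (hb : 2 ≤ b) : ¬ alternatingGroup Ω ≤ partStab f := by
  intro h
  obtain ⟨x, hx, -⟩ := exists_fiber_avoid hf ⟨0, by omega⟩ ∅ (by simp; omega)
  obtain ⟨y, hy, hyx⟩ := exists_fiber_avoid hf ⟨0, by omega⟩ {x} (by simp; omega)
  obtain ⟨w, hw, -⟩ := exists_fiber_avoid hf ⟨1, by omega⟩ ∅ (by simp; omega)
  have hxy : x ≠ y := fun h => hyx (by simp [h])
  have hxw : x ≠ w := fun h => by rw [h, hw] at hx; simp [Fin.ext_iff] at hx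
  have hyw : y ≠ w := fun h => by rw [h, hw] at hy; simp [Fin.ext_iff] at hy
  have := ((h (CfsgLib.AltAut.cyc_isThreeCycle hxy hxw hyw).mem_alternatingGroup) x y).1
    (hx.trans hy.symm)
  rw [CfsgLib.AltAut.cyc_apply_fst hxy hxw, CfsgLib.AltAut.cyc_apply_snd hxw hyw, hy, hw] at this
  simp [Fin.ext_iff] at this

/-- The partition stabiliser is maximal in the symmetric group. -/
theorem eq_top_of_partStab_lt (hf : ∀ i : Fin b, Nat.card {x : Ω // f x = i} = a) (ha : 2 ≤ a)
    (hb : 2 ≤ b) {K : Subgroup (Perm Ω)} (hlt : partStab f < K) : K = ⊤ := by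
  classical
  by_cases hab : 3 ≤ a ∨ 3 ≤ b
  · obtain ⟨u, hu, -⟩ := exists_fiber_avoid hf ⟨0, by omega⟩ ∅ (by simp; omega)
    obtain ⟨v, hv, hvu⟩ := exists_fiber_avoid hf ⟨0, by omega⟩ {u} (by simp; omega)
    have huv : u ≠ v := fun h => hvu (by simp [h])
    have hprim := preprimitive_of_partStab_le hf ha hb hab (inf_le_left.trans hlt.le) hlt.not_ge
    exact subgroup_eq_top_of_isPreprimitive_of_isSwap_mem hprim (swap u v) ⟨u, v, huv, rfl⟩
      (hlt.le (swap_mem_partStab f (hu.trans hv.symm)))
  · obtain ⟨rfl, rfl⟩ : a = 2 ∧ b = 2 := ⟨by omega, by omega⟩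
    have h8 := card_partStab hf (by omega)
    obtain ⟨m, hm⟩ := Subgroup.card_dvd_of_le hlt.le
    have hK := Subgroup.card_subgroup_dvd_card K
    rw [Nat.card_perm, Nat.card_eq_fintype_card (α := Ω), card_eq_mul hf] at hK
    have hcard : Nat.card (partStab f) < Nat.card K := by
      refine lt_of_le_of_ne (Subgroup.card_le_of_le hlt.le) fun he => hlt.ne ?_
      exact Subgroup.eq_of_le_of_card_ge hlt.le he.ge
    rw [h8] at hm hcard
    have hm3 : m ≤ 3 := by
      have := Nat.le_of_dvd (by decide) (hm ▸ hK)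
      norm_num [Nat.factorial] at this
      omega
    refine Subgroup.eq_top_of_card_eq K ?_
    rw [Nat.card_perm, Nat.card_eq_fintype_card (α := Ω), card_eq_mul hf, hm]
    rw [hm] at hK hcard
    interval_cases m <;> simp_all (config := { decide := true })

/-- The even part of the partition stabiliser is maximal in the alternating group. -/
theorem eq_alt_of_partStab_lt (h8 : Fintype.card Ω ≠ 8)
    (hf : ∀ i : Fin b, Nat.card {x : Ω // f x = i} = a) (ha : 2 ≤ a) (hb : 2 ≤ b)
    {K : Subgroup (Perm Ω)} (hlt : partStab f ⊓ alternatingGroup Ω < K)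
    (hKA : K ≤ alternatingGroup Ω) : K = alternatingGroup Ω := by
  classical
  have hn := card_eq_mul hf
  have hnot : ¬ K ≤ partStab f := fun h => hlt.not_ge (le_inf h hKA)
  rcases (show 3 ≤ a ∨ (a = 2 ∧ 5 ≤ b) ∨ (a = 2 ∧ b ≤ 3) by
      rcases Nat.lt_or_ge a 3 with h | h
      · have ha2 : a = 2 := by omega
        subst ha2
        omega
      · exact Or.inl h) with ha3 | ⟨rfl, hb5⟩ | ⟨rfl, hb3⟩
  · obtain ⟨x, hx, -⟩ := exists_fiber_avoid hf ⟨0, by omega⟩ ∅ (by simp; omega)
    obtain ⟨y, hy, hyx⟩ := exists_fiber_avoid hf ⟨0, by omega⟩ {x} (by simp; omega)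
    obtain ⟨z, hz, hzxy⟩ := exists_fiber_avoid hf ⟨0, by omega⟩ {x, y}
      (lt_of_le_of_lt Finset.card_le_two (by omega))
    simp only [Finset.mem_insert, Finset.mem_singleton, not_or] at hzxy
    have hxy : x ≠ y := fun h => hyx (by simp [h])
    have h3 := CfsgLib.AltAut.cyc_isThreeCycle hxy (Ne.symm hzxy.1) (Ne.symm hzxy.2)
    exact le_antisymm hKA (alternatingGroup_le_of_isPreprimitive_of_isThreeCycle_mem
      (preprimitive_of_partStab_le hf ha hb (Or.inl ha3) hlt.le hnot) h3
      (hlt.le ⟨mul_mem (swap_mem_partStab f (hx.trans hy.symm))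
        (swap_mem_partStab f (hy.trans hz.symm)), h3.mem_alternatingGroup⟩))
  · -- pairs, at least five of them
    have hprim := preprimitive_of_partStab_le hf ha hb (Or.inr (by omega)) hlt.le hnot
    obtain ⟨g, hgK, x, x', hxx, hbr⟩ : ∃ g ∈ K, ∃ x x', f x = f x' ∧ f (g x) ≠ f (g x') := by
      by_contra hcon
      push Not at hcon
      refine hnot fun g hg x y => ⟨hcon g hg x y, fun h => ?_⟩
      have := hcon g⁻¹ (inv_mem hg) _ _ h
      simpa using this
    have hxne : x ≠ x' := fun h => hbr (by rw [h])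
    set p := g x with hp
    set q := g x' with hq
    have hpq : p ≠ q := g.injective.ne hxne
    obtain ⟨p', hp', hpp'⟩ := exists_fiber_avoid hf (f p) {p} (by simp)
    have hpne : p ≠ p' := fun h => hpp' (by simp [h])
    obtain ⟨j, -, hj⟩ := Finset.exists_mem_notMem_of_card_lt_card
      (s := ({f x, f (g⁻¹ p')} : Finset (Fin b))) (t := Finset.univ)
      (lt_of_le_of_lt Finset.card_le_two (by rw [Finset.card_univ, Fintype.card_fin]; omega))
    simp only [Finset.mem_insert, Finset.mem_singleton, not_or] at hj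
    obtain ⟨y, hy, -⟩ := exists_fiber_avoid hf j ∅ (by simp)
    obtain ⟨y', hy', hyy'⟩ := exists_fiber_avoid hf j {y} (by simp)
    have hyne : y ≠ y' := fun h => hyy' (by simp [h])
    set r := g y with hr
    set t := g y' with ht
    have hsep : ∀ {u v}, f u ≠ f v → u ≠ v := fun h e => h (by rw [e])
    have hrp : r ≠ p := g.injective.ne (hsep (by rw [hy]; exact hj.1))
    have htp : t ≠ p := g.injective.ne (hsep (by rw [hy']; exact hj.1))
    have hrq : r ≠ q := g.injective.ne (hsep (by rw [hy, ← hxx]; exact hj.1))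
    have htq : t ≠ q := g.injective.ne (hsep (by rw [hy', ← hxx]; exact hj.1))
    have hrp' : r ≠ p' := fun h => hj.2 (by rw [← h, hr, ← hy]; simp)
    have htp' : t ≠ p' := fun h => hj.2 (by rw [← h, ht, ← hy']; simp)
    have hrt : r ≠ t := g.injective.ne hyne
    have hqp' : q ≠ p' := fun h => hbr (by rw [← hp', ← h])
    obtain ⟨o, -, ho⟩ := Finset.exists_mem_notMem_of_card_lt_card
      (s := ({f p, f q, f r, f t} : Finset (Fin b))) (t := Finset.univ)
      (lt_of_le_of_lt Finset.card_le_four (by rw [Finset.card_univ, Fintype.card_fin]; omega))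
    simp only [Finset.mem_insert, Finset.mem_singleton, not_or] at ho
    obtain ⟨u, hu, -⟩ := exists_fiber_avoid hf o ∅ (by simp)
    obtain ⟨v, hv, hvu⟩ := exists_fiber_avoid hf o {u} (by simp)
    have huv : u ≠ v := fun h => hvu (by simp [h])
    have hs : swap x x' * swap y y' ∈ partStab f ⊓ alternatingGroup Ω :=
      ⟨mul_mem (swap_mem_partStab f hxx) (swap_mem_partStab f (hy.trans hy'.symm)),
        Perm.mem_alternatingGroup.2 (by
          rw [map_mul, Perm.sign_swap hxne, Perm.sign_swap hyne]; decide)⟩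
    have hc : swap p p' * swap u v ∈ partStab f ⊓ alternatingGroup Ω :=
      ⟨mul_mem (swap_mem_partStab f hp'.symm) (swap_mem_partStab f (hu.trans hv.symm)),
        Perm.mem_alternatingGroup.2 (by
          rw [map_mul, Perm.sign_swap hpne, Perm.sign_swap huv]; decide)⟩
    have hd : g * (swap x x' * swap y y') * g⁻¹ = swap p q * swap r t := by
      rw [← conj_mul, Equiv.mul_swap_eq_swap_mul, mul_inv_cancel_right,
        Equiv.mul_swap_eq_swap_mul, mul_inv_cancel_right]
    have hdK : swap p q * swap r t ∈ K := hd ▸ mul_mem (mul_mem hgK (hlt.le hs)) (inv_mem hgK)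
    set c := swap p p' * swap u v with hc'
    have hnu : ∀ {z}, f z ≠ o → z ≠ u ∧ z ≠ v := fun h =>
      ⟨fun e => h (by rw [e, hu]), fun e => h (by rw [e, hv])⟩
    have hcz : ∀ z, z ≠ p → z ≠ p' → f z ≠ o → c z = z := fun z h1 h2 h3 => by
      rw [hc', Perm.mul_apply, swap_apply_of_ne_of_ne (hnu h3).1 (hnu h3).2,
        swap_apply_of_ne_of_ne h1 h2]
    have hcp : c p = p' := by
      rw [hc', Perm.mul_apply, swap_apply_of_ne_of_ne (hnu (Ne.symm ho.1)).1 (hnu (Ne.symm ho.1)).2,
        swap_apply_left]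
    have he : c * (swap p q * swap r t) * c⁻¹ = swap p' q * swap r t := by
      rw [← conj_mul, Equiv.mul_swap_eq_swap_mul, mul_inv_cancel_right,
        Equiv.mul_swap_eq_swap_mul, mul_inv_cancel_right, hcp,
        hcz q hpq.symm hqp' (Ne.symm ho.2.1), hcz r hrp hrp' (Ne.symm ho.2.2.1),
        hcz t htp htp' (Ne.symm ho.2.2.2)]
    have heK : swap p' q * swap r t ∈ K :=
      he ▸ mul_mem (mul_mem (hlt.le hc) hdK) (inv_mem (hlt.le hc))
    have h3mem : swap p q * swap p' q ∈ K := by
      have hcomm : Commute (swap p' q) (swap r t) :=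
        (Perm.disjoint_swap_swap (by
          simp [hqp'.symm, hrp'.symm, htp'.symm, hrq.symm, htq.symm, hrt])).commute
      have := mul_mem hdK heK
      rwa [hcomm.eq, mul_assoc (swap p q), ← mul_assoc (swap r t) (swap r t), swap_mul_self,
        one_mul] at this
    refine le_antisymm hKA (alternatingGroup_le_of_isPreprimitive_of_isThreeCycle_mem hprim
      (g := swap p q * swap p' q) ?_ h3mem)
    rw [swap_comm p q, swap_comm p' q]
    exact isThreeCycle_swap_mul_swap_same hpq.symm hqp' hpne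
  · -- four or six points
    have hW := card_partStab hf (by omega)
    have hWA := two_mul_card_partStab_alt hf ha (by omega)
    have : Nontrivial Ω := Fintype.one_lt_card_iff_nontrivial.1 (by omega)
    have hA : 2 * Nat.card (alternatingGroup Ω) = (Fintype.card Ω).factorial := by
      rw [Nat.card_eq_fintype_card, two_mul_card_alternatingGroup, Fintype.card_perm]
    have hcard : Nat.card ↥(partStab f ⊓ alternatingGroup Ω) < Nat.card K := by
      refine lt_of_le_of_ne (Subgroup.card_le_of_le hlt.le) fun he => hlt.ne ?_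
      exact Subgroup.eq_of_le_of_card_ge hlt.le he.ge
    obtain ⟨m, hm⟩ := Subgroup.card_dvd_of_le hlt.le
    have hK := Subgroup.card_dvd_of_le hKA
    interval_cases b
    · -- four points
      rw [hn, show Nat.factorial (2 * 2) = 24 from rfl] at hA
      rw [show Nat.factorial 2 ^ 2 * Nat.factorial 2 = 8 from rfl] at hW
      refine Subgroup.eq_of_le_of_card_ge hKA ?_
      have e1 : Nat.card ↥(partStab f ⊓ alternatingGroup Ω) = 4 := by omega
      have e2 : Nat.card (alternatingGroup Ω) = 12 := by omega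
      have hm3 : m ≤ 3 := by
        have := Nat.le_of_dvd (by omega) hK
        rw [hm] at this
        by_contra h
        have := Nat.mul_le_mul_left (Nat.card ↥(partStab f ⊓ alternatingGroup Ω)) (not_le.1 h)
        omega
      rw [e1] at hm hcard
      rw [hm, e2] at hK
      rw [hm, e2]
      rw [hm] at hcard
      interval_cases m <;> omega
    · -- six points
      rw [hn, show Nat.factorial (3 * 2) = 720 from rfl] at hA
      rw [show Nat.factorial 2 ^ 3 * Nat.factorial 3 = 48 from rfl] at hW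
      have e1 : Nat.card ↥(partStab f ⊓ alternatingGroup Ω) = 24 := by omega
      have e2 : Nat.card (alternatingGroup Ω) = 360 := by omega
      have : IsSimpleGroup (alternatingGroup Ω) :=
        alternatingGroup.isSimpleGroup (by rw [Nat.card_eq_fintype_card]; omega)
      by_contra hne
      have hsub : K.subgroupOf (alternatingGroup Ω) ≠ ⊤ := fun h =>
        hne (le_antisymm hKA (Subgroup.subgroupOf_eq_top.1 h))
      have hdvd := card_dvd_index_factorial hsub
      have hidx := Subgroup.card_mul_index (K.subgroupOf (alternatingGroup Ω))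
      rw [Nat.card_congr (Subgroup.subgroupOfEquivOfLe hKA).toEquiv, hm, e1, e2] at hidx
      rw [e2] at hdvd
      rw [hm, e1] at hcard
      have hle : (K.subgroupOf (alternatingGroup Ω)).index < 8 := by
        by_contra h
        have h1 := Nat.mul_le_mul_left (24 * m) (not_lt.1 h)
        omega
      interval_cases h : (K.subgroupOf (alternatingGroup Ω)).index <;>
        simp +decide at hdvd <;> omega

end CfsgLib.AltHall
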