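import Cfsg.Agent.Lib.Perm.Multiply
import Cfsg.Agent.Lib.Solvable.Hall
import Mathlib.GroupTheory.GroupAction.Jordan
import Mathlib.GroupTheory.Perm.Cycle.Type

/-!
Blocks of (not necessarily transitive) permutation groups, restrictions to blocks and
consequences of Jordan's criterion.
-/

set_option autoImplicit false

open Equiv Equiv.Perm MulAction
open scoped Pointwise

namespace CfsgLib.AltHall

variable {α : Type*} [Fintype α] [DecidableEq α]

/-- Permutations preserving a finite set. -/
def presB (B : Finset α) : Subgroup (Perm α) where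
  carrier := {g | ∀ x, g x ∈ B ↔ x ∈ B}
  one_mem' := fun _ => Iff.rfl
  mul_mem' := fun {a b} ha hb x => (ha (b x)).trans (hb x)
  inv_mem' := fun {a} ha x => by
    have := ha (a⁻¹ x)
    simpa using this.symm

theorem mem_presB_of_mapsTo {B : Finset α} {g : Perm α} (h : ∀ x ∈ B, g x ∈ B) : g ∈ presB B := by
  intro x
  refine ⟨fun hx => ?_, h x⟩
  have himg : B.image g = B :=
    Finset.eq_of_subset_of_card_le (Finset.image_subset_iff.2 h)
      (by rw [Finset.card_image_of_injective _ g.injective])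
  rw [← himg, Finset.mem_image] at hx
  obtain ⟨y, hy, hxy⟩ := hx
  rwa [← g.injective hxy]

/-- Restriction to a preserved set. -/
def restrHom (B : Finset α) : presB B →* Perm {x // x ∈ B} where
  toFun g := (g : Perm α).subtypePerm g.2
  map_one' := by ext x; rfl
  map_mul' g h := by ext x; rfl

/-- The group induced on `B` by the elements of `M` preserving `B`. -/
def restr (M : Subgroup (Perm α)) (B : Finset α) : Subgroup (Perm {x // x ∈ B}) :=
  (M.subgroupOf (presB B)).map (restrHom B)

theorem restr_apply_mem {M : Subgroup (Perm α)} {B : Finset α} {σ : Perm {x // x ∈ B}}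
    (h : σ ∈ restr M B) : ∃ g ∈ M, g ∈ presB B ∧ ∀ x : {x // x ∈ B}, g (x : α) = σ x := by
  obtain ⟨g, hg, rfl⟩ := h
  exact ⟨g, hg, g.2, fun x => rfl⟩

theorem mem_restr {M : Subgroup (Perm α)} {B : Finset α} {g : Perm α} (hg : g ∈ M)
    (hB : g ∈ presB B) : restrHom B ⟨g, hB⟩ ∈ restr M B :=
  ⟨⟨g, hB⟩, hg, rfl⟩

theorem card_restr_dvd (M : Subgroup (Perm α)) (B : Finset α) :
    Nat.card (restr M B) ∣ Nat.card M := by
  refine (Subgroup.card_map_dvd _ _).trans ?_
  exact Subgroup.card_comap_dvd_of_injective M (presB B).subtype Subtype.val_injective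

/-- `D` is a block of `M`. -/
def IsBlk (M : Subgroup (Perm α)) (D : Finset α) : Prop :=
  ∀ g ∈ M, ∀ x ∈ D, g x ∈ D → ∀ y ∈ D, g y ∈ D

omit [Fintype α] in
theorem iterate_mem {D : Finset α} {g : Perm α} (h : ∀ y ∈ D, g y ∈ D) :
    ∀ (i : ℕ), ∀ y ∈ D, (g ^ i) y ∈ D := by
  intro i
  induction i with
  | zero => simp
  | succ i ih =>
    intro y hy
    rw [pow_succ', Perm.mul_apply]
    exact h _ (ih y hy)

/-- A block meeting the support of a cycle of prime length contains the support. -/
theorem block_of_cycle {M : Subgroup (Perm α)} {D : Finset α} (hD : IsBlk M D) (h2 : 2 ≤ D.card)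
    {c : Perm α} (hcM : c ∈ M) (hc : c.IsCycle) (hr : c.support.card.Prime)
    {a : α} (haD : a ∈ D) (hca : c a ≠ a) : c.support ⊆ D := by
  have hmaps : ∀ y ∈ D, c y ∈ D := by
    obtain ⟨y, hy, hya⟩ := Finset.exists_mem_ne (by omega : 1 < D.card) a
    by_cases hcy : c y = y
    · exact hD c hcM y hy (by rwa [hcy])
    · obtain ⟨i, hi, hiy⟩ := (hc.sameCycle hca hcy).exists_pow_eq'
      have hi0 : i ≠ 0 := by
        rintro rfl
        exact hya (by simpa using hiy.symm)
      have hmap : ∀ z ∈ D, (c ^ i) z ∈ D := hD _ (pow_mem hcM i) a haD (by rwa [hiy])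
      obtain ⟨m, hm⟩ := exists_pow_eq_self_of_coprime (x := c) (n := i) (by
        rw [hc.orderOf] at hi ⊢
        exact ((Nat.Prime.coprime_iff_not_dvd hr).2
          (Nat.not_dvd_of_pos_of_lt (Nat.pos_of_ne_zero hi0) hi)).symm)
      intro z hz
      rw [← hm]
      exact iterate_mem hmap m z hz
  intro z hz
  obtain ⟨i, _, hiz⟩ := (hc.sameCycle hca (Perm.mem_support.1 hz)).exists_pow_eq'
  rw [← hiz]
  exact iterate_mem hmaps i a haD

/-- If no smaller block through `a` exists, the induced group on `B` is primitive. -/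
theorem preprimitive_restr {M : Subgroup (Perm α)} {B : Finset α} {a : α} (ha : a ∈ B)
    (htr : ∀ z ∈ B, ∃ g ∈ M, g ∈ presB B ∧ g a = z)
    (hmin : ∀ C : Finset α, C ⊆ B → a ∈ C → 2 ≤ C.card →
      (∀ g ∈ M, g ∈ presB B → ∀ x ∈ C, g x ∈ C → ∀ y ∈ C, g y ∈ C) → C = B) :
    IsPreprimitive (restr M B) {x // x ∈ B} := by
  classical
  have : IsPretransitive (restr M B) {x // x ∈ B} := by
    rw [isPretransitive_iff_base (⟨a, ha⟩ : {x // x ∈ B})]
    rintro ⟨z, hz⟩
    obtain ⟨g, hg, hgB, hgz⟩ := htr z hz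
    exact ⟨⟨_, mem_restr hg hgB⟩, Subtype.ext hgz⟩
  refine IsPreprimitive.of_isTrivialBlock_base (⟨a, ha⟩ : {x // x ∈ B}) fun {C} haC hC => ?_
  rcases C.subsingleton_or_nontrivial with h | h
  · exact Or.inl h
  right
  let C' : Finset α := C.toFinset.map (Function.Embedding.subtype _)
  have hmem : ∀ x : {x // x ∈ B}, (x : α) ∈ C' ↔ x ∈ C := by
    intro x
    simp [C']
  have hsub : C' ⊆ B := by
    intro x hx
    simp only [C', Finset.mem_map] at hx
    obtain ⟨y, -, rfl⟩ := hx
    exact y.2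
  have hcard : 2 ≤ C'.card := by
    obtain ⟨x, hx, y, hy, hxy⟩ := h
    exact Finset.one_lt_card.2 ⟨x, (hmem x).2 hx, y, (hmem y).2 hy, Subtype.coe_ne_coe.2 hxy⟩
  have := hmin C' hsub ((hmem ⟨a, ha⟩).2 haC) hcard ?_
  · ext x
    simp only [Set.mem_univ, iff_true, ← hmem x, this]
    exact x.2
  intro g hg hgB x hx hgx y hy
  let σ : restr M B := ⟨_, mem_restr hg hgB⟩
  have hgx' : σ • (⟨x, hsub hx⟩ : {x // x ∈ B}) ∈ C := (hmem _).1 hgx
  have heq : σ • C = C := hC.smul_eq_of_mem ((hmem ⟨x, hsub hx⟩).1 hx) hgx'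
  have : σ • (⟨y, hsub hy⟩ : {x // x ∈ B}) ∈ C := by
    rw [← heq]
    exact Set.smul_mem_smul_set ((hmem ⟨y, hsub hy⟩).1 hy)
  exact (hmem _).2 this

/-- Restriction of a cycle to a preserved set containing its support. -/
theorem restr_cycle {M : Subgroup (Perm α)} {B : Finset α} {c : Perm α} (hcM : c ∈ M)
    (hc : c.IsCycle) (hsupp : c.support ⊆ B) :
    ∃ c' ∈ restr M B, c'.IsCycle ∧ c'.support.card = c.support.card ∧
      ∀ x : {x // x ∈ B}, (c' x : α) = c x := by
  classical
  have hcB : c ∈ presB B := mem_presB_of_mapsTo fun x hx => by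
    by_cases h : c x = x
    · rwa [h]
    · exact hsupp (Perm.mem_support.2 fun e => h (c.injective e))
  obtain ⟨a, hca, -⟩ := id hc
  have haB : a ∈ B := hsupp (Perm.mem_support.2 hca)
  refine ⟨restrHom B ⟨c, hcB⟩, mem_restr hcM hcB, ?_, ?_, fun x => rfl⟩
  · refine ⟨⟨a, haB⟩, fun h => hca (congrArg Subtype.val h), fun y hy => ?_⟩
    exact (hc.sameCycle hca (y := (y : α)) fun h => hy (Subtype.ext h)).subtypePerm (h := hcB)
  · refine (Finset.card_map (Function.Embedding.subtype _)).symm.trans (congrArg Finset.card ?_)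
    ext x
    simp only [Finset.mem_map, Perm.mem_support, Function.Embedding.coe_subtype]
    constructor
    · rintro ⟨y, hy, rfl⟩
      exact fun h => hy (Subtype.ext h)
    · exact fun hx => ⟨⟨x, hsupp (Perm.mem_support.2 hx)⟩, fun h => hx (congrArg Subtype.val h), rfl⟩

/-- The smallest block around a cycle of prime length. -/
theorem exists_component {M : Subgroup (Perm α)} {c : Perm α} (hcM : c ∈ M) (hc : c.IsCycle)
    (hr : c.support.card.Prime) :
    ∃ B : Finset α, c.support ⊆ B ∧ IsBlk M B ∧ IsPreprimitive (restr M B) {x // x ∈ B} ∧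
      ∃ c' ∈ restr M B, c'.IsCycle ∧ c'.support.card = c.support.card ∧
        ∀ x : {x // x ∈ B}, (c' x : α) = c x := by
  classical
  obtain ⟨B, hB, hBmin⟩ := Finset.exists_min_image
    ((Finset.univ : Finset (Finset α)).filter fun B => c.support ⊆ B ∧ IsBlk M B) Finset.card
    ⟨Finset.univ, Finset.mem_filter.2 ⟨Finset.mem_univ _, Finset.subset_univ _, fun _ _ _ _ _ _ _ => Finset.mem_univ _⟩⟩
  simp only [Finset.mem_filter, Finset.mem_univ, true_and, and_imp] at hB hBmin
  obtain ⟨hsupp, hblk⟩ := hB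
  obtain ⟨a, hca, -⟩ := id hc
  have haB : a ∈ B := hsupp (Perm.mem_support.2 hca)
  have hcB : c ∈ presB B := mem_presB_of_mapsTo fun x hx =>
    hblk c hcM a haB (hsupp (Perm.mem_support.2 fun h => hca (c.injective h))) x hx
  let O := B.filter fun z => ∃ g ∈ M, g ∈ presB B ∧ g a = z
  have hO : B = O := by
    refine (Finset.eq_of_subset_of_card_le (Finset.filter_subset _ _) (hBmin O ?_ ?_)).symm
    · intro z hz
      obtain ⟨i, -, hi⟩ := (hc.sameCycle hca (Perm.mem_support.1 hz)).exists_pow_eq'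
      exact Finset.mem_filter.2 ⟨hsupp hz, c ^ i, pow_mem hcM i, pow_mem hcB i, hi⟩
    · intro g hg x hx hgx y hy
      obtain ⟨hxB, g₁, hg₁, hg₁B, rfl⟩ := Finset.mem_filter.1 hx
      obtain ⟨hyB, g₂, hg₂, hg₂B, rfl⟩ := Finset.mem_filter.1 hy
      have hgB : g ∈ presB B :=
        mem_presB_of_mapsTo (hblk g hg _ hxB (Finset.mem_filter.1 hgx).1)
      exact Finset.mem_filter.2 ⟨(hgB _).2 hyB, g * g₂, mul_mem hg hg₂, mul_mem hgB hg₂B, rfl⟩
  refine ⟨B, hsupp, hblk, preprimitive_restr haB (fun z hz => ?_) ?_, restr_cycle hcM hc hsupp⟩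
  · rw [hO] at hz
    exact (Finset.mem_filter.1 hz).2
  · intro C hCB haC h2 hCblk
    have hblkC : IsBlk M C := fun g hg x hx hgx =>
      hCblk g hg (mem_presB_of_mapsTo (hblk g hg x (hCB hx) (hCB hgx))) x hx hgx
    exact Finset.eq_of_subset_of_card_le hCB
      (hBmin C (block_of_cycle hblkC h2 hcM hc hr haC hca) hblkC)

/-- A primitive group with a cycle of prime length fixing two points has order divisible by 6. -/
theorem six_dvd {R : Subgroup (Perm α)} [hR : IsPreprimitive R α] {c : Perm α} (hcR : c ∈ R)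
    (hc : c.IsCycle) (hr : c.support.card.Prime) (h2 : c.support.card + 2 ≤ Nat.card α) :
    6 ∣ Nat.card R := by
  classical
  set s : Set α := (c.support : Set α)ᶜ with hs
  have hsc : s.ncard = Nat.card α - c.support.card := by
    rw [hs, Set.ncard_compl, Set.ncard_coe_finset]
  obtain ⟨k, hk⟩ : ∃ k, s.ncard = k + 1 := ⟨s.ncard - 1, by omega⟩
  have hr2 := hr.two_le
  have := isPretransitive_of_isCycle_mem hc hcR
  have hprim : IsPreprimitive (fixingSubgroup R s) (SubMulAction.ofFixingSubgroup R s) := by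
    refine IsPreprimitive.of_prime_card ?_
    convert hr using 1
    change Nat.card (SubMulAction.ofFixingSubgroup R s).carrier = _
    rw [Nat.card_coe_set_eq, SubMulAction.ofFixingSubgroup_carrier, hs, compl_compl,
      Set.ncard_coe_finset]
  have hmult := hR.isMultiplyPreprimitive hk (by omega) hprim
  have : IsMultiplyPretransitive R α (k + 2) := hmult.isMultiplyPretransitive
  haveI : IsMultiplyPretransitive R α 3 :=
    isMultiplyPretransitive_of_le (n := k + 2) (by omega) (by omega)
  refine dvd_trans ?_ (CfsgLib.Perm.descFactorial_dvd_card (G := R) (α := α) (k := 3) (by omega))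
  exact (show (6 : ℕ) = Nat.factorial 3 from rfl) ▸ Nat.factorial_dvd_descFactorial (Nat.card α) 3

/-- A soluble transitive group of prime degree has no two commuting involutions. -/
theorem no_klein {β : Type*} [Finite β] {q : ℕ} (hq : q.Prime) (hq3 : 3 ≤ q)
    (hβ : Nat.card β = q) (R : Subgroup (Perm β)) [IsPretransitive R β] [Group.IsSolvable R]
    {u v : R} (hu : u * u = 1) (hv : v * v = 1) (hu1 : u ≠ 1) (hv1 : v ≠ 1) (huv : u ≠ v)
    (hcomm : u * v = v * u) : False := by
  have : Fact q.Prime := ⟨hq⟩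
  have : IsPreprimitive R β := IsPreprimitive.of_prime_card (by rwa [hβ])
  have : Nontrivial R := nontrivial_of_ne u 1 hu1
  obtain ⟨p, N, hp, hN, hNp, hN1⟩ := CfsgLib.Solvable.exists_normal_pgroup_ne_bot (G := R)
  have : Fact p.Prime := ⟨hp⟩
  have hNtr : IsPretransitive N β := IsQuasiPreprimitive.isPretransitive_of_normal (by
    intro h
    apply hN1
    rw [eq_bot_iff]
    intro x hx
    rw [Subgroup.mem_bot]
    ext z
    exact (h ▸ Set.mem_univ z : z ∈ fixedPoints N β) ⟨x, hx⟩)
  obtain ⟨a⟩ : Nonempty β := (Nat.card_pos_iff.1 (hβ ▸ hq.pos)).1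
  have hqN : q ∣ Nat.card N := by
    rw [← hβ, ← index_stabilizer_of_transitive N a]
    exact Subgroup.index_dvd_card _
  obtain ⟨k, hk⟩ := IsPGroup.iff_card.1 hNp
  have hpq : q = p := (Nat.prime_dvd_prime_iff_eq hq hp).1 (hq.dvd_of_dvd_pow (hk ▸ hqN))
  subst hpq
  have hk1 : Nat.card N = q := by
    have hle : Nat.card N ∣ q.factorial := by
      rw [← hβ, ← Nat.card_perm]
      exact (Subgroup.card_subgroup_dvd_card N).trans (Subgroup.card_subgroup_dvd_card R)
    rw [hk] at hle ⊢ hqN
    have h1 : k ≤ 1 := by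
      by_contra h
      have h2 : q * q ∣ q * (q - 1).factorial := by
        rw [Nat.mul_factorial_pred hq.ne_zero, ← sq]
        exact (pow_dvd_pow q (by omega)).trans hle
      have h3 := (Nat.Prime.dvd_factorial hq).1 (Nat.dvd_of_mul_dvd_mul_left hq.pos h2)
      omega
    interval_cases k
    · exact absurd hqN (by simpa using hq.ne_one)
    · simp
  have hNc : IsMulCommutative N := (isCyclic_of_prime_card hk1).isMulCommutative
  -- elements commuting with all of `N` lie in `N`
  have hcent : ∀ w : R, (∀ x ∈ N, x * w = w * x) → w ∈ N := by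
    intro w hw
    obtain ⟨x, hx⟩ := exists_smul_eq N a (w • a)
    have : w = (x : R) := by
      apply Subtype.ext
      ext z
      obtain ⟨y, rfl⟩ := exists_smul_eq N a z
      show w • ((y : R) • a) = (x : R) • ((y : R) • a)
      rw [smul_smul, smul_smul, ← hw y y.2, congrArg Subtype.val (IsMulCommutative.is_comm.comm x y :
        x * y = y * x) |>.trans (Subgroup.coe_mul _ _ _) |> fun h => (Subgroup.coe_mul _ _ _).symm.trans h,
        mul_smul, mul_smul]
      exact congrArg ((y : R) • ·) hx.symm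
    exact this ▸ x.2
  have hnotN : ∀ w : R, w * w = 1 → w ≠ 1 → w ∉ N := by
    intro w hw hw1 hmem
    have h1 : orderOf (⟨w, hmem⟩ : N) ∣ 2 :=
      orderOf_dvd_of_pow_eq_one (Subtype.ext (by rw [pow_two]; exact hw))
    have h2 : orderOf (⟨w, hmem⟩ : N) ∣ q := hk1 ▸ orderOf_dvd_natCard _
    have := Nat.dvd_gcd h1 h2
    rw [(Nat.coprime_primes Nat.prime_two hq).2 (by omega), Nat.dvd_one, orderOf_eq_one_iff] at this
    exact hw1 (congrArg Subtype.val this)
  -- hence involutions invert `N`
  have hinv : ∀ w : R, w * w = 1 → w ≠ 1 → ∀ x ∈ N, w * x * w = x⁻¹ := by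
    intro w hw hw1
    have hwinv : w⁻¹ = w := inv_eq_of_mul_eq_one_right hw
    have hconj : ∀ x ∈ N, w * x * w ∈ N := fun x hx => by
      simpa [hwinv] using hN.conj_mem x hx w
    have hc : ∀ x ∈ N, ∀ y ∈ N, x * y = y * x := fun x hx y hy =>
      congrArg Subtype.val (IsMulCommutative.is_comm.comm (⟨x, hx⟩ : N) ⟨y, hy⟩)
    intro x hx
    by_contra hne
    set h := x * (w * x * w) with hh
    have hmem : h ∈ N := mul_mem hx (hconj x hx)
    have hwh : h * w = w * h := by
      have e1 : w * h = (w * x * w) * x * w := by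
        rw [hh]
        simp only [← mul_assoc]
      rw [e1, hh, hc _ hx _ (hconj x hx)]
    have hh1 : h ≠ 1 := fun he => hne (inv_eq_of_mul_eq_one_right he).symm
    refine hnotN w hw hw1 (hcent w fun y hy => ?_)
    obtain ⟨i, hi⟩ := mem_powers_of_prime_card (g' := (⟨y, hy⟩ : N)) hk1
      (g := ⟨h, hmem⟩) (fun he => hh1 (congrArg Subtype.val he))
    have hy' : y = h ^ i := (congrArg Subtype.val hi).symm.trans (by simp)
    rw [hy']
    exact (Commute.pow_left hwh i).eq
  refine hnotN (u * v) ?_ ?_ (hcent _ fun y hy => ?_)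
  · calc u * v * (u * v) = u * (v * u) * v := by group
      _ = u * (u * v) * v := by rw [hcomm]
      _ = (u * u) * (v * v) := by group
      _ = 1 := by rw [hu, hv, one_mul]
  · intro h
    exact huv ((mul_eq_one_iff_eq_inv.1 h).trans (inv_eq_of_mul_eq_one_right hv))
  · have h1 := hinv u hu hu1 y hy
    have h2 := hinv v hv hv1 _ (inv_mem hy)
    rw [inv_inv, ← h1] at h2
    calc y * (u * v) = (v * (u * y * u) * v) * (u * v) := by rw [h2]
      _ = v * u * y * u * (v * u) * v := by group
      _ = v * u * y * (u * u) * (v * v) := by rw [← hcomm]; group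
      _ = u * v * y := by rw [hu, hv, hcomm, mul_one, mul_one]

end CfsgLib.AltHall
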