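import Cfsg.Agent.Lib.AltHall.Primitive
import Cfsg.Agent.Lib.Char.Burnside
import Mathlib.GroupTheory.Perm.ViaEmbedding
import Mathlib.GroupTheory.Perm.Cycle.Concrete
import Mathlib.GroupTheory.SpecificGroups.Alternating

/-!
No proper nilpotent-like Hall subgroup of an alternating group when `{2,3}` is not in `π`.
-/

set_option autoImplicit false

open Equiv Equiv.Perm MulAction

namespace CfsgLib.AltHall

variable {α : Type*} [Fintype α] [DecidableEq α]

/-- A cycle on a given set. -/
theorem exists_cycle_on {S : Finset α} (h : 2 ≤ S.card) :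
    ∃ c : Perm α, c.IsCycle ∧ c.support = S := by
  have hlen : 2 ≤ S.toList.length := by rwa [Finset.length_toList]
  refine ⟨S.toList.formPerm, List.isCycle_formPerm S.nodup_toList hlen, ?_⟩
  rw [List.support_formPerm_of_nodup _ S.nodup_toList (fun x hx => ?_), Finset.toList_toFinset]
  rw [hx, List.length_singleton] at hlen
  omega

theorem sign_eq_one_of_pow_odd {g : Perm α} {m : ℕ} (hm : Odd m) (h : g ^ m = 1) :
    Perm.sign g = 1 := by
  rcases Int.units_eq_one_or (Perm.sign g) with hs | hs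
  · exact hs
  · have := congrArg Perm.sign h
    rw [map_pow, map_one, hs, Odd.neg_one_pow hm] at this
    exact absurd this (by decide)

omit [Fintype α] in
theorem card_zpowers_cycle [Fintype α] {c : Perm α} (hc : c.IsCycle) :
    Nat.card (Subgroup.zpowers c) = c.support.card := by
  rw [Nat.card_zpowers, hc.orderOf]

omit [Fintype α] [DecidableEq α] in
theorem viaEmbedding_swap [DecidableEq α] {β : Type*} [DecidableEq β] (e : β ↪ α) (x y : β) :
    Perm.viaEmbeddingHom e (swap x y) = swap (e x) (e y) := by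
  ext z
  rw [Perm.viaEmbeddingHom_apply]
  by_cases hz : z ∈ Set.range e
  · obtain ⟨w, rfl⟩ := hz
    rw [Perm.viaEmbedding_apply, Function.Injective.swap_apply e.injective]
  · rw [Perm.viaEmbedding_apply_of_notMem _ _ _ hz, swap_apply_of_ne_of_ne] <;>
      rintro rfl <;> exact hz ⟨_, rfl⟩

/-- Disjoint cycles of prime length inside one `p`-group. -/
theorem exists_cycles {p k : ℕ} (hp : p.Prime) (hp2 : p ≠ 2) (h : p * k ≤ Fintype.card α) :
    ∃ P : Subgroup (Perm α), P ≤ alternatingGroup α ∧ IsPGroup p P ∧ ∃ U : Finset α,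
      U.card = p * k ∧ ∀ x ∈ U, ∃ c ∈ P, c.IsCycle ∧ c.support.card = p ∧ c x ≠ x := by
  classical
  have : Fact p.Prime := ⟨hp⟩
  obtain ⟨e⟩ : Nonempty (Fin k × ZMod p ↪ α) := Function.Embedding.nonempty_of_card_le (by
    simpa [mul_comm] using h)
  let φ : Multiplicative (Fin k → ZMod p) →* Perm (Fin k × ZMod p) :=
    { toFun := fun v =>
        { toFun := fun x => (x.1, x.2 + Multiplicative.toAdd v x.1)
          invFun := fun x => (x.1, x.2 - Multiplicative.toAdd v x.1)
          left_inv := fun x => by simp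
          right_inv := fun x => by simp }
      map_one' := by ext x <;> simp
      map_mul' := fun v w => by
        ext x
        · rfl
        · simp only [Equiv.coe_fn_mk, Perm.mul_apply, toAdd_mul, Pi.add_apply]
          abel }
  let ψ := (Perm.viaEmbeddingHom e).comp φ
  have hexp : ∀ g ∈ ψ.range, g ^ p = 1 := by
    rintro g ⟨v, rfl⟩
    rw [← map_pow, ← map_one ψ]
    congr 1
    apply Multiplicative.toAdd.injective
    ext i
    simp
  refine ⟨ψ.range, fun g hg => Perm.mem_alternatingGroup.2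
    (sign_eq_one_of_pow_odd (hp.odd_of_ne_two hp2) (hexp g hg)), fun g => ⟨1, ?_⟩,
    Finset.univ.map e, by simp [mul_comm], ?_⟩
  · apply Subtype.ext
    rw [pow_one, Subgroup.coe_pow, hexp g g.2, Subgroup.coe_one]
  intro x hx
  obtain ⟨⟨i, j⟩, -, rfl⟩ := Finset.mem_map.1 hx
  set v : Multiplicative (Fin k → ZMod p) := Multiplicative.ofAdd (Pi.single i 1) with hv
  set c := ψ v with hc
  have hcapp : ∀ z : Fin k × ZMod p, c (e z) = e (z.1, z.2 + (Pi.single i 1 : Fin k → ZMod p) z.1) := by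
    intro z
    rw [hc]
    exact Perm.viaEmbedding_apply _ e z
  have hmove : ∀ t : ZMod p, c (e (i, t)) ≠ e (i, t) := by
    intro t he
    rw [hcapp] at he
    simpa using e.injective he
  have hpow : ∀ m : ℕ, ∀ t : ZMod p, (c ^ m) (e (i, t)) = e (i, t + m) := by
    intro m
    induction m with
    | zero => simp
    | succ m ih =>
      intro t
      rw [pow_succ', Perm.mul_apply, ih, hcapp]
      simp [add_assoc]
  have hsupp : c.support = (Finset.univ : Finset (ZMod p)).map
      ⟨fun t => e (i, t), fun s t h => by simpa using e.injective h⟩ := by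
    ext z
    simp only [Perm.mem_support, Finset.mem_map, Finset.mem_univ, true_and,
      Function.Embedding.coeFn_mk]
    constructor
    · intro hz
      by_cases hzr : z ∈ Set.range e
      · obtain ⟨⟨l, t⟩, rfl⟩ := hzr
        refine ⟨t, ?_⟩
        by_cases hli : l = i
        · subst hli; rfl
        · rw [hcapp] at hz
          simp [hli] at hz
      · exact absurd (Perm.viaEmbedding_apply_of_notMem _ e z hzr) hz
    · rintro ⟨t, rfl⟩
      exact hmove t
  refine ⟨c, ⟨v, rfl⟩, ⟨e (i, 0), hmove 0, fun z hz => ?_⟩, ?_, hmove j⟩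
  · obtain ⟨t, -, rfl⟩ := Finset.mem_map.1 (hsupp ▸ Perm.mem_support.2 hz)
    refine ⟨(t.val : ℤ), ?_⟩
    rw [zpow_natCast, hpow, zero_add, ZMod.natCast_zmod_val]
    rfl
  · rw [hsupp, Finset.card_map, Finset.card_univ, ZMod.card]

/-- An even product of the fixed pairs and of the exchange of the first two pairs form a 2-group. -/
theorem exists_pairs_group {k : ℕ} (hk : 2 ≤ k) (e : Fin k × Fin 2 ↪ α) :
    ∃ P : Subgroup (Perm α), P ≤ alternatingGroup α ∧ IsPGroup 2 P ∧
      (∀ i j : Fin k, i ≠ j →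
        swap (e (i, 0)) (e (i, 1)) * swap (e (j, 0)) (e (j, 1)) ∈ P) ∧
      swap (e (⟨0, by omega⟩, 0)) (e (⟨1, by omega⟩, 0)) *
        swap (e (⟨0, by omega⟩, 1)) (e (⟨1, by omega⟩, 1)) ∈ P := by
  classical
  set τ : Perm (Fin k) := swap ⟨0, by omega⟩ ⟨1, by omega⟩ with hτ
  let W : Subgroup (Perm (Fin k × Fin 2)) :=
    { carrier := {g | (∀ x, (g x).1 = x.1) ∨ ∀ x, (g x).1 = τ x.1}
      one_mem' := Or.inl fun _ => rfl
      mul_mem' := fun {a b} ha hb => by
        rcases ha with ha | ha <;> rcases hb with hb | hb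
        · exact Or.inl fun x => by rw [Perm.mul_apply, ha, hb]
        · exact Or.inr fun x => by rw [Perm.mul_apply, ha, hb]
        · exact Or.inr fun x => by rw [Perm.mul_apply, ha, hb]
        · exact Or.inl fun x => by rw [Perm.mul_apply, ha, hb, hτ, swap_apply_self]
      inv_mem' := fun {a} ha => by
        rcases ha with ha | ha
        · refine Or.inl fun x => ?_
          simpa using (ha (a⁻¹ x)).symm
        · refine Or.inr fun x => ?_
          have := congrArg τ (ha (a⁻¹ x))
          simp only [Perm.coe_inv, Equiv.apply_symm_apply, hτ, swap_apply_self] at this ⊢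
          exact this.symm }
  have hexp : ∀ g ∈ W, g ^ 4 = 1 := by
    intro g hg
    have h2 : ∀ x, ((g ^ 2) x).1 = x.1 := by
      intro x
      rw [pow_two, Perm.mul_apply]
      rcases hg with hg | hg
      · rw [hg, hg]
      · rw [hg, hg, hτ, swap_apply_self]
    rw [show 4 = 2 * 2 from rfl, pow_mul]
    generalize hy : g ^ 2 = y at h2
    ext x : 1
    rw [pow_two, Perm.mul_apply, Perm.one_apply]
    by_contra hne
    have h1 : y x ≠ x := fun h => hne (by rw [h, h])
    have h3 : y (y x) ≠ y x := fun h => h1 (y.injective h)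
    have e1 := h2 x
    have e2 := h2 (y x)
    simp only [ne_eq, Prod.ext_iff] at h1 h3 hne
    have key : ∀ a b c : Fin 2, b ≠ a → c ≠ b → c = a := by decide
    exact hne ⟨e2.trans e1, key x.2 (y x).2 (y (y x)).2 (fun h => h1 ⟨e1, h⟩) (fun h => h3 ⟨e2, h⟩)⟩
  refine ⟨W.map (Perm.viaEmbeddingHom e) ⊓ alternatingGroup α, inf_le_right, fun g => ⟨2, ?_⟩,
    fun i j hij => ?_, ?_⟩
  · obtain ⟨w, hw, hwg⟩ := g.2.1
    apply Subtype.ext
    rw [Subgroup.coe_pow, ← hwg, ← map_pow, show (2 : ℕ) ^ 2 = 4 from rfl, hexp w hw, map_one]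
    rfl
  · refine ⟨⟨swap (i, 0) (i, 1) * swap (j, 0) (j, 1), Or.inl fun x => ?_, ?_⟩, ?_⟩
    · rw [Perm.mul_apply]
      simp only [swap_apply_def]
      split_ifs <;> simp_all
    · rw [map_mul, viaEmbedding_swap, viaEmbedding_swap]
    · refine Perm.mem_alternatingGroup.2 ?_
      rw [map_mul, Perm.sign_swap, Perm.sign_swap]
      · decide
      all_goals simp
  · refine ⟨⟨swap ((⟨0, by omega⟩ : Fin k), (0 : Fin 2)) (⟨1, by omega⟩, 0) *
      swap (⟨0, by omega⟩, 1) (⟨1, by omega⟩, 1), Or.inr fun x => ?_, ?_⟩, ?_⟩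
    · obtain ⟨a, b⟩ := x
      rw [Perm.mul_apply, hτ]
      simp only [swap_apply_def]
      fin_cases b <;> split_ifs <;> simp_all
    · rw [map_mul, viaEmbedding_swap, viaEmbedding_swap]
    · refine Perm.mem_alternatingGroup.2 ?_
      rw [map_mul, Perm.sign_swap, Perm.sign_swap]
      · decide
      all_goals simp

/-- The case `π ∩ [1,n] = {2,q}`. -/
theorem small_two {M : Subgroup (Perm α)} [Group.IsSolvable M] (h6 : ¬ 6 ∣ Nat.card M)
    {q : ℕ} (hq : q.Prime) (hq5 : 5 ≤ q) {c : Perm α} (hcM : c ∈ M) (hc : c.IsCycle)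
    (hcq : c.support.card = q) {k : ℕ} (hk : 2 ≤ k) (hnk : Fintype.card α ≤ 2 * k + 1)
    (e : Fin k × Fin 2 ↪ α)
    (hpair : ∀ i j : Fin k, i ≠ j →
      swap (e (i, 0)) (e (i, 1)) * swap (e (j, 0)) (e (j, 1)) ∈ M)
    (hσ : swap (e (⟨0, by omega⟩, 0)) (e (⟨1, by omega⟩, 0)) *
        swap (e (⟨0, by omega⟩, 1)) (e (⟨1, by omega⟩, 1)) ∈ M) : False := by
  classical
  obtain ⟨B, hsupp, hblk, hR, c', hc'R, hc', hc'card, -⟩ :=
    exists_component hcM hc (hcq ▸ hq)
  have hBq : q ≤ B.card := hcq ▸ Finset.card_le_card hsupp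
  have hBq1 : B.card ≤ q + 1 := by
    by_contra h
    refine h6 ((six_dvd hc'R hc' (hc'card ▸ hcq ▸ hq) ?_).trans (card_restr_dvd M B))
    rw [Nat.card_eq_fintype_card, Fintype.card_coe, hc'card, hcq]
    omega
  have hpres : ∀ i j : Fin k, i ≠ j →
      swap (e (i, 0)) (e (i, 1)) * swap (e (j, 0)) (e (j, 1)) ∈ presB B := by
    intro i j hij
    obtain ⟨x, hxB, hx⟩ := Finset.exists_mem_notMem_of_card_lt_card
      (s := ({e (i, 0), e (i, 1), e (j, 0), e (j, 1)} : Finset α)) (t := B) (by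
        refine lt_of_le_of_lt Finset.card_le_four ?_
        omega)
    simp only [Finset.mem_insert, Finset.mem_singleton, not_or] at hx
    refine mem_presB_of_mapsTo (hblk _ (hpair i j hij) x hxB ?_)
    rwa [Perm.mul_apply, swap_apply_of_ne_of_ne hx.2.2.1 hx.2.2.2, swap_apply_of_ne_of_ne hx.1 hx.2.1]
  have hne : ∀ (i : Fin k), ∃ j, i ≠ j := fun i => by
    by_cases h : i = ⟨0, by omega⟩
    · exact ⟨⟨1, by omega⟩, by simp [h]⟩
    · exact ⟨⟨0, by omega⟩, h⟩
  have hboth : ∀ i : Fin k, e (i, 0) ∈ B ↔ e (i, 1) ∈ B := by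
    intro i
    obtain ⟨j, hij⟩ := hne i
    have := hpres i j hij (e (i, 0))
    rw [Perm.mul_apply, swap_apply_of_ne_of_ne (a := e (j, 0)) (by simp [hij]) (by simp [hij]),
      swap_apply_left] at this
    exact this.symm
  have hall : ∀ i : Fin k, e (i, 0) ∈ B := by
    obtain ⟨i, hi⟩ : ∃ i : Fin k, e (i, 0) ∈ B := by
      by_contra hcon
      push Not at hcon
      have hdisj : Disjoint (Finset.univ.map e) B := by
        rw [Finset.disjoint_left]
        intro x hx hxB
        obtain ⟨⟨i, b⟩, -, rfl⟩ := Finset.mem_map.1 hx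
        fin_cases b
        · exact hcon i hxB
        · exact hcon i ((hboth i).2 hxB)
      have := Finset.card_le_univ (Finset.univ.map e ∪ B)
      rw [Finset.card_union_of_disjoint hdisj, Finset.card_map, Finset.card_univ,
        Fintype.card_prod, Fintype.card_fin, Fintype.card_fin] at this
      omega
    intro j
    by_contra hj
    have hij : i ≠ j := fun h => hj (h ▸ hi)
    set g := swap (e (i, 0)) (e (i, 1)) * swap (e (j, 0)) (e (j, 1)) with hg
    have hswap : restrHom B ⟨g, hpres i j hij⟩ =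
        swap ⟨e (i, 0), hi⟩ ⟨e (i, 1), (hboth i).1 hi⟩ := by
      ext x
      have h1 : (x : α) ≠ e (j, 0) := fun h => hj (h ▸ x.2)
      have h2 : (x : α) ≠ e (j, 1) := fun h => hj ((hboth j).2 (h ▸ x.2))
      rw [← Function.Injective.swap_apply Subtype.val_injective]
      show g x = _
      rw [hg, Perm.mul_apply, swap_apply_of_ne_of_ne h1 h2]
    have hmem := mem_restr (hpair i j hij) (hpres i j hij)
    rw [hswap] at hmem
    have hs : ((swap ⟨e (i, 0), hi⟩ ⟨e (i, 1), (hboth i).1 hi⟩ : Perm {x // x ∈ B})).IsSwap :=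
      ⟨_, _, by simp, rfl⟩
    refine h6 ((six_dvd hmem hs.isCycle ?_ ?_).trans (card_restr_dvd M B))
    · rw [Perm.card_support_eq_two.2 hs]
      exact Nat.prime_two
    · rw [Perm.card_support_eq_two.2 hs, Nat.card_eq_fintype_card, Fintype.card_coe]
      omega
  have hall' : ∀ x, e x ∈ B := by
    rintro ⟨i, b⟩
    fin_cases b
    · exact hall i
    · exact (hboth i).1 (hall i)
  set a0 := e (⟨0, by omega⟩, 0) with ha0
  set b0 := e (⟨0, by omega⟩, 1) with hb0
  set a1 := e (⟨1, by omega⟩, 0) with ha1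
  set b1 := e (⟨1, by omega⟩, 1) with hb1
  set four : Finset α := {a0, b0, a1, b1} with hfour
  have h4B : four ⊆ B := by
    simp [hfour, Finset.subset_iff, ha0, hb0, ha1, hb1, hall']
  obtain ⟨c₂, hc₂M, hc₂, hc₂q, h4c⟩ : ∃ c₂ ∈ M, c₂.IsCycle ∧ c₂.support.card = q ∧
      four ⊆ c₂.support := by
    by_cases hx : ∃ x ∈ four, x ∉ c.support
    · obtain ⟨x, hx4, hxc⟩ := hx
      obtain ⟨y, hyB, hy4⟩ := Finset.exists_mem_notMem_of_card_lt_card (s := four) (t := B) (by
        refine lt_of_le_of_lt Finset.card_le_four ?_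
        omega)
      obtain ⟨r, hr⟩ := exists_smul_eq (restr M B) (⟨x, h4B hx4⟩ : {x // x ∈ B}) ⟨y, hyB⟩
      obtain ⟨g, hgM, hgB, hgr⟩ := restr_apply_mem r.2
      have hgx : g x = y := (hgr ⟨x, h4B hx4⟩).trans (congrArg Subtype.val hr)
      have hcard : (g * c * g⁻¹).support.card = q := by rw [Perm.card_support_conj, hcq]
      refine ⟨g * c * g⁻¹, mul_mem (mul_mem hgM hcM) (inv_mem hgM), hc.conj, hcard, ?_⟩
      have hsub : (g * c * g⁻¹).support ⊆ B.erase y := by
        rw [Perm.support_conj]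
        intro z hz
        obtain ⟨w, hw, rfl⟩ := Finset.mem_map.1 hz
        refine Finset.mem_erase.2 ⟨fun h => hxc ?_, (hgB w).2 (hsupp hw)⟩
        rwa [show x = w from g.injective (hgx.trans h.symm)]
      have := Finset.eq_of_subset_of_card_le hsub (by
        rw [Finset.card_erase_of_mem hyB, hcard]
        omega)
      rw [this]
      exact fun z hz => Finset.mem_erase.2 ⟨fun h => hy4 (h ▸ hz), h4B hz⟩
    · push Not at hx
      exact ⟨c, hcM, hc, hcq, hx⟩
  set S := c₂.support with hS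
  simp only [hfour, Finset.insert_subset_iff, Finset.singleton_subset_iff] at h4c
  have hmem : ∀ g ∈ M, (∀ z, z ∉ four → g z = z) → g ∈ presB S := by
    intro g _ hg
    refine mem_presB_of_mapsTo fun z hz => ?_
    by_cases hgz : g z = z
    · rwa [hgz]
    · have : g z ∈ four := by
        by_contra h
        exact hgz (g.injective (hg _ h))
      simp only [hfour, Finset.mem_insert, Finset.mem_singleton] at this
      rcases this with h | h | h | h <;> rw [h] <;> tauto
  have : IsPretransitive (restr M S) {x // x ∈ S} := by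
    obtain ⟨a, ha, -⟩ := id hc₂
    rw [isPretransitive_iff_base (⟨a, Perm.mem_support.2 ha⟩ : {x // x ∈ S})]
    rintro ⟨z, hz⟩
    obtain ⟨i, -, hi⟩ := (hc₂.sameCycle ha (Perm.mem_support.1 hz)).exists_pow_eq'
    exact ⟨⟨_, mem_restr (pow_mem hc₂M i)
      (pow_mem (show c₂ ∈ presB S from fun x => Perm.apply_mem_support) i)⟩, Subtype.ext hi⟩
  have : Group.IsSolvable (M.subgroupOf (presB S)) :=
    Group.isSolvable_of_isSolvable_injective (f := (presB S).subtype.subgroupComap M) fun a b h =>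
      Subtype.ext (Subtype.ext (congrArg (fun x : M => (x : Perm α)) h))
  have : Group.IsSolvable (restr M S) :=
    Group.isSolvable_of_surjective (f := (restrHom S).subgroupMap (M.subgroupOf (presB S)))
      (MonoidHom.subgroupMap_surjective _ _)
  set t := swap a0 b0 * swap a1 b1 with ht
  set s := swap a0 a1 * swap b0 b1 with hs'
  have h4 : ∀ z, z ∉ four → z ≠ a0 ∧ z ≠ b0 ∧ z ≠ a1 ∧ z ≠ b1 := by
    intro z hz
    simpa [hfour, not_or] using hz
  have htS : t ∈ presB S := hmem t (hpair _ _ (by simp)) fun z hz => by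
    obtain ⟨h1, h2, h3, h5⟩ := h4 z hz
    rw [ht, Perm.mul_apply, swap_apply_of_ne_of_ne h3 h5, swap_apply_of_ne_of_ne h1 h2]
  have hsS : s ∈ presB S := hmem s hσ fun z hz => by
    obtain ⟨h1, h2, h3, h5⟩ := h4 z hz
    rw [hs', Perm.mul_apply, swap_apply_of_ne_of_ne h2 h5, swap_apply_of_ne_of_ne h1 h3]
  have d01 : a0 ≠ b0 := by simp [ha0, hb0]
  have d02 : a0 ≠ a1 := by simp [ha0, ha1]
  have d03 : a0 ≠ b1 := by simp [ha0, hb1]
  have d12 : b0 ≠ a1 := by simp [hb0, ha1]
  have d13 : b0 ≠ b1 := by simp [hb0, hb1]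
  have d23 : a1 ≠ b1 := by simp [ha1, hb1]
  have hd1 : Perm.Disjoint (swap a0 b0) (swap a1 b1) :=
    Perm.disjoint_swap_swap (by simp [d01, d02, d03, d12, d13, d23])
  have hd2 : Perm.Disjoint (swap a0 a1) (swap b0 b1) :=
    Perm.disjoint_swap_swap (by simp [d01, d02, d03, d12.symm, d13, d23])
  have ett : t * t = 1 := by
    rw [ht, hd1.commute.symm.mul_mul_mul_comm, swap_mul_self, swap_mul_self, one_mul]
  have ess : s * s = 1 := by
    rw [hs', hd2.commute.symm.mul_mul_mul_comm, swap_mul_self, swap_mul_self, one_mul]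
  have ets : t * s = s * t := by
    ext z
    simp only [ht, hs', Perm.mul_apply]
    by_cases z0 : z = a0
    · subst z0
      simp [swap_apply_of_ne_of_ne, d01, d02, d03, d12, d13, d23, d01.symm, d02.symm, d03.symm,
        d12.symm, d13.symm, d23.symm]
    by_cases z1 : z = b0
    · subst z1
      simp [swap_apply_of_ne_of_ne, d01, d02, d03, d12, d13, d23, d01.symm, d02.symm, d03.symm,
        d12.symm, d13.symm, d23.symm]
    by_cases z2 : z = a1
    · subst z2
      simp [swap_apply_of_ne_of_ne, d01, d02, d03, d12, d13, d23, d01.symm, d02.symm, d03.symm,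
        d12.symm, d13.symm, d23.symm]
    by_cases z3 : z = b1
    · subst z3
      simp [swap_apply_of_ne_of_ne, d01, d02, d03, d12, d13, d23, d01.symm, d02.symm, d03.symm,
        d12.symm, d13.symm, d23.symm]
    simp [swap_apply_of_ne_of_ne, z0, z1, z2, z3]
  let T : restr M S := ⟨_, mem_restr (hpair _ _ (by simp)) htS⟩
  let U : restr M S := ⟨_, mem_restr hσ hsS⟩
  have hTa : ((T.1 ⟨a0, h4c.1⟩ : {x // x ∈ S}) : α) = b0 := by
    show t a0 = b0
    rw [ht, Perm.mul_apply, swap_apply_of_ne_of_ne d02 d03, swap_apply_left]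
  have hUa : ((U.1 ⟨a0, h4c.1⟩ : {x // x ∈ S}) : α) = a1 := by
    show s a0 = a1
    rw [hs', Perm.mul_apply, swap_apply_of_ne_of_ne d01 d03, swap_apply_left]
  refine no_klein hq (by omega) (by rw [Nat.card_eq_fintype_card, Fintype.card_coe, hS, hc₂q])
    (restr M S) (u := T) (v := U) ?_ ?_ ?_ ?_ ?_ ?_
  · exact Subtype.ext (Equiv.ext fun z => Subtype.ext (Perm.congr_fun ett z))
  · exact Subtype.ext (Equiv.ext fun z => Subtype.ext (Perm.congr_fun ess z))
  · intro h
    rw [h] at hTa
    exact d01 hTa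
  · intro h
    rw [h] at hUa
    exact d02 hUa
  · intro h
    rw [h, hUa] at hTa
    exact d12 hTa.symm
  · exact Subtype.ext (Equiv.ext fun z => Subtype.ext (Perm.congr_fun ets z))

/-- A subgroup of the alternating group containing conjugates of all its `p`-subgroups, `p ∈ π`,
has order divisible by 6 as soon as two primes of `π` are at most `n`. -/
theorem two_three_mem {π : Set ℕ} (hn : 5 ≤ Fintype.card α) {M : Subgroup (Perm α)}
    (hMA : M ≤ alternatingGroup α)
    (hMπ : ∀ p : ℕ, p.Prime → p ∣ Nat.card M → p ∈ π)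
    (hsyl : ∀ (p : ℕ) (P : Subgroup (Perm α)), p.Prime → p ∈ π → P ≤ alternatingGroup α →
      IsPGroup p P → ∃ g : Perm α, ∀ x ∈ P, g * x * g⁻¹ ∈ M)
    (h2 : ∃ r s : ℕ, r.Prime ∧ s.Prime ∧ r ≠ s ∧ r ∈ π ∧ s ∈ π ∧
      r ≤ Fintype.card α ∧ s ≤ Fintype.card α) :
    2 ∈ π ∧ 3 ∈ π := by
  classical
  by_contra h23
  obtain ⟨q, hq, hqmax⟩ := Finset.exists_max_image ((Finset.range (Fintype.card α + 1)).filter
    fun r => r.Prime ∧ r ∈ π) id (by
      obtain ⟨r, s, hr, -, -, hrπ, -, hrn, -⟩ := h2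
      exact ⟨r, by simp [hr, hrπ]; omega⟩)
  simp only [Finset.mem_filter, Finset.mem_range, id, and_imp] at hq hqmax
  obtain ⟨hqn, hqp, hqπ⟩ := hq
  obtain ⟨r, hr, hrπ, hrn, hrq⟩ : ∃ r : ℕ, r.Prime ∧ r ∈ π ∧ r ≤ Fintype.card α ∧ r < q := by
    obtain ⟨r, s, hr, hs, hrs, hrπ, hsπ, hrn, hsn⟩ := h2
    have h1 := hqmax r (by omega) hr hrπ
    have h3 := hqmax s (by omega) hs hsπ
    rcases Nat.lt_or_ge r q with h | h
    · exact ⟨r, hr, hrπ, hrn, h⟩
    · exact ⟨s, hs, hsπ, hsn, by omega⟩
  have hr2 := hr.two_le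
  have hq5 : 5 ≤ q := by
    by_contra h
    have hq4 : q ≠ 4 := fun e => by rw [e] at hqp; norm_num at hqp
    have hq3 : q = 3 := by omega
    exact h23 ⟨show 2 ∈ π by rwa [show (2 : ℕ) = r by omega], hq3 ▸ hqπ⟩
  have h6 : ¬ 6 ∣ Nat.card M := fun h =>
    h23 ⟨hMπ 2 Nat.prime_two (dvd_trans (by norm_num) h),
      hMπ 3 Nat.prime_three (dvd_trans (by norm_num) h)⟩
  -- a `q`-cycle in every subgroup containing conjugates of all `q`-subgroups
  have hqcyc : ∃ c ∈ M, c.IsCycle ∧ c.support.card = q := by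
    obtain ⟨S, -, hS⟩ := Finset.exists_subset_card_eq (s := (Finset.univ : Finset α)) (n := q)
      (by rw [Finset.card_univ]; omega)
    obtain ⟨c, hc, hcS⟩ := exists_cycle_on (S := S) (by omega)
    have : Fact q.Prime := ⟨hqp⟩
    obtain ⟨g, hg⟩ := hsyl q (Subgroup.zpowers c) hqp hqπ (by
      rw [Subgroup.zpowers_le]
      exact Perm.mem_alternatingGroup.2 (sign_eq_one_of_pow_odd (hqp.odd_of_ne_two (by omega))
        (by rw [← hS, ← hcS, ← hc.orderOf, pow_orderOf_eq_one])))
      (IsPGroup.of_card (n := 1) (by rw [card_zpowers_cycle hc, hcS, hS, pow_one]))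
    exact ⟨g * c * g⁻¹, hg c (Subgroup.mem_zpowers c), hc.conj, by rw [Perm.card_support_conj, hcS, hS]⟩
  by_cases hodd : ∃ p : ℕ, p.Prime ∧ p ≠ 2 ∧ p ∈ π ∧ p < q
  · obtain ⟨p, hp, hp2, hpπ, hpq⟩ := hodd
    obtain ⟨c, hcM, hc, hcq⟩ := hqcyc
    obtain ⟨B, hsupp, hblk, hR, c', hc'R, hc', hc'card, -⟩ :=
      exists_component hcM hc (hcq ▸ hqp)
    have hBq : q ≤ B.card := hcq ▸ Finset.card_le_card hsupp
    obtain ⟨P, hPA, hP, U, hU, hUc⟩ := exists_cycles (α := α) (k := Fintype.card α / p) hp hp2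
      (Nat.mul_div_le _ _)
    obtain ⟨g, hg⟩ := hsyl p P hp hpπ hPA hP
    have hdisj : Disjoint (U.map g.toEmbedding) B := by
      rw [Finset.disjoint_left]
      intro x hx hxB
      obtain ⟨y, hy, rfl⟩ := Finset.mem_map.1 hx
      obtain ⟨d, hdP, hd, hdp, hdy⟩ := hUc y hy
      have hdM := hg d hdP
      have hsub : (g * d * g⁻¹).support ⊆ B :=
        block_of_cycle hblk (by omega) hdM hd.conj (by rwa [Perm.card_support_conj, hdp])
          (a := g y) hxB (by simpa using fun h => hdy (g.injective h))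
      obtain ⟨d', hd'R, hd', hd'card, -⟩ := restr_cycle hdM hd.conj hsub
      rw [Perm.card_support_conj, hdp] at hd'card
      refine h6 ((six_dvd hd'R hd' (by rwa [hd'card]) ?_).trans (card_restr_dvd M B))
      rw [Nat.card_eq_fintype_card, Fintype.card_coe, hd'card]
      obtain ⟨u, hu⟩ := hp.odd_of_ne_two hp2
      obtain ⟨v, hv⟩ := hqp.odd_of_ne_two (by omega)
      omega
    have := Finset.card_le_univ (U.map g.toEmbedding ∪ B)
    rw [Finset.card_union_of_disjoint hdisj, Finset.card_map, hU] at this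
    have h1 := Nat.lt_mul_div_succ (Fintype.card α) hp.pos
    rw [Nat.mul_succ] at h1
    omega
  · push Not at hodd
    have hr2' : r = 2 := by
      by_contra h
      have := hodd r hr h hrπ
      omega
    subst hr2'
    have hsolv : Group.IsSolvable M := by
      refine CfsgLib.Char.isSolvable_of_two_primes 2 q Nat.prime_two hqp _ M rfl fun p hp hpd => ?_
      have hpn : p ≤ Fintype.card α := by
        rw [← hp.dvd_factorial, ← Fintype.card_perm, ← Nat.card_eq_fintype_card]
        exact hpd.trans (Subgroup.card_subgroup_dvd_card M)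
      have h1 := hqmax p (by omega) hp (hMπ p hp hpd)
      by_contra h
      push Not at h
      have := hodd p hp h.1 (hMπ p hp hpd)
      omega
    obtain ⟨c, hcM, hc, hcq⟩ := hqcyc
    obtain ⟨e⟩ : Nonempty (Fin (Fintype.card α / 2) × Fin 2 ↪ α) :=
      Function.Embedding.nonempty_of_card_le (by simp; omega)
    obtain ⟨P, hPA, hP, hpair, hσ⟩ := exists_pairs_group (by omega) e
    obtain ⟨g, hg⟩ := hsyl 2 P Nat.prime_two hrπ hPA hP
    refine small_two h6 hqp hq5 hcM hc hcq (by omega) (by omega) (e.trans g.toEmbedding)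
      (fun i j hij => ?_) ?_
    · have := hg _ (hpair i j hij)
      rw [← conj_mul, Equiv.mul_swap_eq_swap_mul, mul_inv_cancel_right,
        Equiv.mul_swap_eq_swap_mul, mul_inv_cancel_right] at this
      exact this
    · have := hg _ hσ
      rw [← conj_mul, Equiv.mul_swap_eq_swap_mul, mul_inv_cancel_right,
        Equiv.mul_swap_eq_swap_mul, mul_inv_cancel_right] at this
      exact this

end CfsgLib.AltHall
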